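import Mathlib
import Cfsg.Agent.E7P.Br.Api_m3
import Cfsg.Agent.E8A.Fix.BorGen
import Cfsg.Agent.Lib.ListFast
import Cfsg.Agent.R2.T1.P3.Q3
import Cfsg.Agent.ChevFast.E8
import Cfsg.Agent.E7P.En1.Rat_m3
import Cfsg.Agent.R2.T1.Five.CaseII_m3
import Cfsg.Agent.FastGrp
import Cfsg.Agent.Prune
set_option linter.all false

-- part: E7P/Lie/AJor
section
set_option linter.all false
open scoped Cfsg.Agent.FastGrp

-- part: E7P/Lie/AMat
section
/-!
# S5932, LIE-a (helper76): diagonalisable matrices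

`Dg X d` : `X` is similar to `diagonal d`.  `Dg.inter` : intertwiners respect Jordan decompositions;
`Dg.exists_eig`, `Dg.eig_zero`, `Dg.eig_mem` : eigenvectors of `ad X`; `Dg.exists_generic`.
-/

set_option autoImplicit false

namespace Cfsg.Agent.E7P.La

open Matrix

variable {K : Type*} [Field K] {I : Type*} [Fintype I] [DecidableEq I]

theorem diag_inter {d d' : I → K} {N N' Y : Matrix I I K} (hN : IsNilpotent N) (hN' : IsNilpotent N')
    (hc : Commute (diagonal d) N) (hc' : Commute (diagonal d') N')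
    (h : Y * (diagonal d + N) = (diagonal d' + N') * Y) : Y * diagonal d = diagonal d' * Y := by
  let Φ : Module.End K (Matrix I I K) := LinearMap.mulLeft K (diagonal d') - LinearMap.mulRight K (diagonal d)
  let Ψ : Module.End K (Matrix I I K) := LinearMap.mulRight K N - LinearMap.mulLeft K N'
  have hΦ : ∀ Z, Φ Z = diagonal d' * Z - Z * diagonal d := fun _ => rfl
  have hΨ : ∀ Z, Ψ Z = Z * N - N' * Z := fun _ => rfl
  have h1 : IsNilpotent Ψ := Commute.isNilpotent_sub (LinearMap.commute_mulLeft_right N' N).symm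
    (by rwa [LinearMap.isNilpotent_mulRight_iff]) (by rwa [LinearMap.isNilpotent_mulLeft_iff])
  have h2 : Commute Ψ Φ := by
    refine LinearMap.ext fun Z => ?_
    show Ψ (Φ Z) = Φ (Ψ Z)
    rw [hΦ, hΨ, hΦ, hΨ]
    simp only [Matrix.mul_sub, Matrix.sub_mul, Matrix.mul_assoc]
    rw [hc.eq, ← Matrix.mul_assoc N' (diagonal d'), ← hc'.eq, Matrix.mul_assoc]
    abel
  have h3 : Φ Y = Ψ Y := by
    rw [hΦ, hΨ]
    rw [Matrix.mul_add, Matrix.add_mul] at h
    rw [sub_eq_sub_iff_add_eq_add, ← h, add_comm]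
  have h4 : ∀ m : ℕ, (Φ ^ m) Y = (Ψ ^ m) Y := by
    intro m
    induction m with
    | zero => rfl
    | succ m ih =>
      rw [pow_succ, Module.End.mul_apply, h3, ← Module.End.mul_apply, ← (h2.pow_right m).eq, Module.End.mul_apply, ih,
        pow_succ', Module.End.mul_apply]
  have h5 : ∀ (m : ℕ) i j, (Φ ^ m) Y i j = (d' i - d j) ^ m * Y i j := by
    intro m
    induction m with
    | zero => intro i j; simp
    | succ m ih =>
      intro i j
      rw [pow_succ', Module.End.mul_apply, hΦ, Matrix.sub_apply, Matrix.diagonal_mul, Matrix.mul_diagonal, ih]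
      ring
  obtain ⟨m, hm⟩ := h1
  ext i j
  have h6 := h5 m i j
  rw [h4, hm, LinearMap.zero_apply, Matrix.zero_apply] at h6
  rw [Matrix.diagonal_mul, Matrix.mul_diagonal]
  rcases mul_eq_zero.1 h6.symm with h7 | h7
  · rw [sub_eq_zero.1 (pow_eq_zero_iff'.1 h7).1, mul_comm]
  · rw [h7, zero_mul, mul_zero]

/-- the commutator -/
def ad (X : Matrix I I K) : Module.End K (Matrix I I K) := LinearMap.mulLeft K X - LinearMap.mulRight K X

theorem ad_apply (X Y : Matrix I I K) : ad X Y = X * Y - Y * X := rfl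

theorem ad_diag (d : I → K) (Y : Matrix I I K) (i j : I) : ad (diagonal d) Y i j = (d i - d j) * Y i j := by
  rw [ad_apply, Matrix.sub_apply, diagonal_mul, mul_diagonal]
  ring

open Classical in
theorem diag_eig (d : I → K) (U : Submodule K (Matrix I I K)) (hU : ∀ Y ∈ U, ad (diagonal d) Y ∈ U) :
    ∀ (n : ℕ) (Y : Matrix I I K), Y ∈ U → (Finset.univ.filter fun q : I × I => Y q.1 q.2 ≠ 0).card ≤ n →
      ad (diagonal d) Y ≠ 0 → ∃ W ∈ U, W ≠ 0 ∧ ∃ i j, d i - d j ≠ 0 ∧ ad (diagonal d) W = (d i - d j) • W := by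
  have key : ∀ Y : Matrix I I K, ad (diagonal d) Y ≠ 0 → ∃ i j, d i - d j ≠ 0 ∧ Y i j ≠ 0 := fun Y hY => by
    by_contra hc
    refine hY (Matrix.ext fun i j => ?_)
    rw [ad_diag, Matrix.zero_apply]
    by_contra h
    exact hc ⟨i, j, left_ne_zero_of_mul h, right_ne_zero_of_mul h⟩
  intro n
  induction n with
  | zero =>
    intro Y _ hc h
    obtain ⟨i, j, -, h2⟩ := key Y h
    exact absurd (Finset.card_pos.2 ⟨(i, j), Finset.mem_filter.2 ⟨Finset.mem_univ _, h2⟩⟩) (not_lt.2 hc)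
  | succ n ih =>
    intro Y hY hc h
    obtain ⟨i, j, h1, h2⟩ := key Y h
    by_cases h3 : ad (diagonal d) (ad (diagonal d) Y - (d i - d j) • Y) = 0
    · refine ⟨_, hU Y hY, h, i, j, h1, ?_⟩
      rwa [map_sub, map_smul, sub_eq_zero] at h3
    · refine ih _ (sub_mem (hU Y hY) (U.smul_mem _ hY)) (Nat.le_of_lt_succ (lt_of_lt_of_le (Finset.card_lt_card ?_) hc)) h3
      have h4 : ∀ a b, (ad (diagonal d) Y - (d i - d j) • Y) a b = (d a - d b - (d i - d j)) * Y a b := fun a b => by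
        rw [Matrix.sub_apply, ad_diag, Matrix.smul_apply, smul_eq_mul, ← sub_mul]
      refine ⟨fun q hq => Finset.mem_filter.2 ⟨Finset.mem_univ _, ?_⟩, fun hs => ?_⟩
      · have h5 := (Finset.mem_filter.1 hq).2
        rw [h4] at h5
        exact right_ne_zero_of_mul h5
      · have h5 := (Finset.mem_filter.1 (hs (Finset.mem_filter.2 ⟨Finset.mem_univ (i, j), h2⟩))).2
        rw [h4, sub_self, zero_mul] at h5
        exact h5 rfl

/-- similar to a diagonal matrix -/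
def Dg (X : Matrix I I K) (d : I → K) : Prop := ∃ P Q : Matrix I I K, P * Q = 1 ∧ X = P * diagonal d * Q

theorem dg_diag (d : I → K) : Dg (diagonal d) d := ⟨1, 1, one_mul _, by rw [one_mul, mul_one]⟩

theorem ad_conj {P Q : Matrix I I K} (h : P * Q = 1) (D Y : Matrix I I K) :
    Q * ad (P * D * Q) Y * P = ad D (Q * Y * P) := by
  have h' : Q * P = 1 := mul_eq_one_comm.1 h
  simp only [ad_apply, mul_sub, sub_mul, mul_assoc, h', mul_one]
  rw [← mul_assoc Q P, h', one_mul]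

theorem conj_back {P Q : Matrix I I K} (h : P * Q = 1) (Y : Matrix I I K) : P * (Q * Y * P) * Q = Y := by
  rw [← mul_assoc, ← mul_assoc, h, one_mul, mul_assoc, h, mul_one]

namespace Dg

variable {X : Matrix I I K} {d : I → K}

theorem exists_eig (h : Dg X d) (U : Submodule K (Matrix I I K)) (hU : ∀ Y ∈ U, ad X Y ∈ U) {Y : Matrix I I K}
    (hY : Y ∈ U) (h0 : ad X Y ≠ 0) : ∃ W ∈ U, W ≠ 0 ∧ ∃ i j, d i - d j ≠ 0 ∧ ad X W = (d i - d j) • W := by
  obtain ⟨P, Q, h1, rfl⟩ := h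
  let f : Matrix I I K →ₗ[K] Matrix I I K := LinearMap.mulRight K P ∘ₗ LinearMap.mulLeft K Q
  have hf : ∀ Y, f Y = Q * Y * P := fun _ => rfl
  obtain ⟨_, ⟨W, hW, rfl⟩, h2, i, j, h3, h4⟩ := diag_eig d (U.map f) (by
    rintro _ ⟨Z, hZ, rfl⟩
    exact ⟨_, hU Z hZ, ad_conj h1 _ _⟩) _ (f Y) ⟨Y, hY, rfl⟩ le_rfl fun e => h0 (by
      rw [← conj_back h1 (ad _ Y), ad_conj h1, ← hf, e, mul_zero, zero_mul])
  refine ⟨W, hW, fun e => h2 (by rw [e, map_zero]), i, j, h3, ?_⟩
  rw [← conj_back h1 (ad _ W), ad_conj h1, ← hf, h4, mul_smul_comm, smul_mul_assoc, hf, conj_back h1]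

theorem eig_zero (h : Dg X d) {Y : Matrix I I K} {c : K} (hc : c ≠ 0) (e : ad Y X = c • X) : X = 0 := by
  obtain ⟨P, Q, h1, rfl⟩ := h
  have h' : Q * P = 1 := mul_eq_one_comm.1 h1
  have h2 : ad (diagonal d) (Q * Y * P) = -c • diagonal d := by
    rw [← ad_conj h1, ad_apply, ← neg_sub, ← ad_apply, e, neg_smul, mul_neg, neg_mul, mul_smul_comm, smul_mul_assoc,
      conj_back h']
  have h3 : d = 0 := funext fun i => by
    have h3 := congrFun (congrFun h2 i) i
    rw [ad_diag, sub_self, zero_mul, Matrix.smul_apply, diagonal_apply_eq, smul_eq_mul] at h3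
    exact (mul_eq_zero.1 h3.symm).resolve_left (neg_ne_zero.2 hc)
  rw [h3, show diagonal (0 : I → K) = 0 from diagonal_zero, mul_zero, zero_mul]

theorem eig_mem (h : Dg X d) {W : Matrix I I K} {c : K} (h0 : W ≠ 0) (e : ad X W = c • W) : ∃ i j, c = d i - d j := by
  obtain ⟨P, Q, h1, rfl⟩ := h
  by_contra hc
  refine h0 ?_
  have h2 : Q * W * P = 0 := Matrix.ext fun i j => by
    have h2 := ad_diag d (Q * W * P) i j
    rw [← ad_conj h1, e, mul_smul_comm, smul_mul_assoc, Matrix.smul_apply, smul_eq_mul, ← sub_eq_zero, ← sub_mul] at h2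
    exact (mul_eq_zero.1 h2).resolve_left fun h3 => hc ⟨i, j, sub_eq_zero.1 h3⟩
  rw [← conj_back h1 W, h2, mul_zero, zero_mul]

/-- a generic combination of two commuting diagonalisable matrices -/
theorem exists_generic [Infinite K] (h : Dg X d) {S : Matrix I I K} {s : I → K} (hS : Dg S s) (hc : S * X = X * S) :
    ∃ t : K, ∀ Y, ad (S + t • X) Y = 0 → ad S Y = 0 ∧ ad X Y = 0 := by
  classical
  obtain ⟨t, ht⟩ := Infinite.exists_notMem_finset
    (Finset.univ.image fun q : (I × I) × I × I => -(s q.1.1 - s q.1.2) / (d q.2.1 - d q.2.2))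
  have h1 : ∀ Y, ad (S + t • X) Y = ad S Y + t • ad X Y := fun Y => by
    simp only [ad_apply, add_mul, mul_add, smul_mul_assoc, mul_smul_comm, smul_sub]
    abel
  have h2 : ∀ Y, ad (S + t • X) Y = 0 → ad X Y = 0 := fun Y hY => by
    by_contra h0
    obtain ⟨W, hW, w0, i, j, h3, h4⟩ := h.exists_eig (LinearMap.ker (ad (S + t • X))) (fun Z hZ => by
      have h5 : Commute (S + t • X) X := Commute.add_left hc ((Commute.refl X).smul_left t)
      have h6 : (S + t • X) * Z = Z * (S + t • X) := sub_eq_zero.1 hZ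
      have h7 : Commute (S + t • X) (X * Z - Z * X) := (h5.mul_right h6).sub_right (Commute.mul_right h6 h5)
      exact sub_eq_zero.2 h7) hY h0
    have h5 : ad S W = (-(t * (d i - d j))) • W := by
      have h5 : ad (S + t • X) W = 0 := hW
      rw [h1, h4, smul_smul] at h5
      rw [neg_smul, eq_neg_iff_add_eq_zero, h5]
    obtain ⟨a, b, h6⟩ := hS.eig_mem w0 h5
    exact ht (Finset.mem_image.2 ⟨((a, b), i, j), Finset.mem_univ _, by
      show -(s a - s b) / (d i - d j) = t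
      rw [← h6, neg_neg, mul_div_cancel_right₀ _ h3]⟩)
  refine ⟨t, fun Y hY => ⟨?_, h2 Y hY⟩⟩
  have h3 := h2 Y hY
  rwa [h1, h3, smul_zero, add_zero] at hY

end Dg

/-- a Jordan decomposition of a matrix -/
structure Jm (S N : Matrix I I K) : Prop where
  dg : ∃ d, Dg S d
  nil : IsNilpotent N
  cm : S * N = N * S

/-- intertwiners respect Jordan decompositions -/
theorem Jm.inter {S N S' N' Y : Matrix I I K} (h : Jm S N) (h' : Jm S' N') (e : Y * (S + N) = (S' + N') * Y) :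
    Y * S = S' * Y := by
  obtain ⟨⟨d, P, Q, h1, rfl⟩, n1, c1⟩ := h
  obtain ⟨⟨d', P', Q', h2, rfl⟩, n2, c2⟩ := h'
  have nil : ∀ {P Q N : Matrix I I K}, P * Q = 1 → IsNilpotent N → IsNilpotent (Q * N * P) := fun {P Q N} h hN => by
    obtain ⟨m, hm⟩ := hN
    have h3 : ∀ k : ℕ, (Q * N * P) ^ (k + 1) = Q * N ^ (k + 1) * P := fun k => by
      induction k with
      | zero => rw [zero_add, pow_one, pow_one]
      | succ k ih =>
        rw [pow_succ, ih, pow_succ N (k + 1)]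
        simp only [mul_assoc]
        rw [← mul_assoc P Q, h, one_mul]
    exact ⟨m + 1, by rw [h3, pow_succ, hm, zero_mul, mul_zero, zero_mul]⟩
  have cm : ∀ {P Q N D : Matrix I I K}, P * Q = 1 → P * D * Q * N = N * (P * D * Q) → Commute D (Q * N * P) :=
    fun {P Q N D} h hc => by
      have h3 := ad_conj h D N
      rw [ad_apply, hc, sub_self, mul_zero, zero_mul, ad_apply] at h3
      exact sub_eq_zero.1 h3.symm
  have q1 : Q * P = 1 := mul_eq_one_comm.1 h1
  have q2 : Q' * P' = 1 := mul_eq_one_comm.1 h2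
  have h3 := diag_inter (Y := Q' * Y * P) (nil h1 n1) (nil h2 n2) (cm h1 c1) (cm h2 c2) (by
    have h3 := congrArg (fun Z => Q' * Z * P) e
    simp only [mul_add, add_mul, mul_assoc, q1, mul_one] at h3 ⊢
    rw [← mul_assoc Q' P', q2, one_mul] at h3
    rw [← mul_assoc P Q, h1, one_mul, ← mul_assoc P' Q', h2, one_mul, h3])
  have h4 := congrArg (fun Z => P' * Z * Q) h3
  simp only [mul_assoc, h1, mul_one] at h4 ⊢
  rwa [← mul_assoc P' Q', h2, one_mul] at h4

theorem jm_scalar (c : K) : Jm (diagonal fun _ : I => c) 0 :=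
  ⟨⟨_, dg_diag _⟩, IsNilpotent.zero, by rw [mul_zero, zero_mul]⟩

/-- eigenvectors -/
theorem Jm.eig {S N : Matrix I I K} (h : Jm S N) {v : I → K} {c : K} (e : (S + N) *ᵥ v = c • v) : S *ᵥ v = c • v := by
  have key : ∀ (A : Matrix I I K) (i j : I), (A * replicateCol I v) i j = (A *ᵥ v) i := fun _ _ _ => rfl
  have h1 := (jm_scalar c).inter h (Y := replicateCol I v) (Matrix.ext fun i j => by
    rw [key, e, add_zero, mul_diagonal, replicateCol_apply, Pi.smul_apply, smul_eq_mul, mul_comm])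
  funext i
  rw [← key S i i, ← h1, mul_diagonal, replicateCol_apply, Pi.smul_apply, smul_eq_mul, mul_comm]

end Cfsg.Agent.E7P.La
end

-- part: E7P/Lie/AJor
section
/-!
# S5932, LIE-a (helper76): the Jordan decomposition in the Lie algebra

`Eqv K` : `del` is equivariant (`eqv` : true if `2 ≠ 0`).  `Jd x s z` : Jordan decomposition; `jord` : existence;
`Jd.comm, Jd.inter, Jd.ker, Jd.eig, Jd.fix, Jd.nilp`; `nil` : nilpotent elements are conjugate into `Gt K ac rho1 0`.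
-/

set_option autoImplicit false
set_option maxRecDepth 100000

namespace Cfsg.Agent.E7P.La

open Cfsg Cfsg.Lie Matrix Module
open Cfsg.Agent.H943.E7V.Block (D1 rho)
open Cfsg.Agent.H944.E7Two (e7T)
open Cfsg.Agent.R2.T1 Cfsg.Agent.E7P.Kf
open Cfsg.Agent.R2.PX (del)

universe u

variable {K : Type u} [Field K]

variable (K) in
/-- `del` is equivariant -/
def Eqv : Prop := ∀ (g : Gh K) (z : chevE7.Idx → K), rho K g * del K z = del K (adM K g *ᵥ z) * rho K g

theorem eqv (h2 : (2 : K) ≠ 0) : Eqv K := R2.PX.del_equi h2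

theorem rho_mul_inv (g : Gh K) : rho K g * rho K g⁻¹ = 1 := by rw [← map_mul, mul_inv_cancel, map_one]

theorem Eqv.conj (hq : Eqv K) (g : Gh K) (z : chevE7.Idx → K) :
    del K (adM K g *ᵥ z) = rho K g * del K z * rho K g⁻¹ := by
  rw [hq, mul_assoc, rho_mul_inv, mul_one]

/-- the value of a weight on a toral vector -/
def wval (l : Fin 7 → K) (a : D1) : K := ∑ i : Fin 7, l i * (wc a i : K)

theorem Hi_def (i : ℕ) : R2.PX.Hi K i = diagonal fun a => ((chevE8.cartan i (nn a) : ℤ) : K) := rfl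

theorem rval_def (r : ℕ) (x : chevE7.Idx → K) :
    rval r x = ∑ i : Fin chevE7.rank, (chevE7.cartan i r : K) * x (Sum.inl i) := rfl

theorem rv_def (r : ℕ) : rv r = cv (rc r) := rfl

theorem del_tv' (l : Fin 7 → K) : del K (tv l) = ∑ i : Fin chevE7.rank, l i • R2.PX.Hi K i := by
  rw [R2.PX.del_apply]
  simp only [tv_inl, tv_inr, zero_smul, Finset.sum_const_zero, add_zero]

theorem del_tv (l : Fin 7 → K) : del K (tv l) = diagonal (wval l) := by
  rw [del_tv']
  ext a b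
  rw [Matrix.sum_apply]
  by_cases h : a = b
  · subst h
    rw [diagonal_apply_eq]
    exact Finset.sum_congr rfl fun i _ => by rw [Matrix.smul_apply, Hi_def, diagonal_apply_eq]; rfl
  · rw [diagonal_apply_ne _ h]
    exact Finset.sum_eq_zero fun i _ => by rw [Matrix.smul_apply, Hi_def, diagonal_apply_ne _ h, smul_zero]

theorem tv_NM (l : Fin 7 → K) {r : ℕ} (hr : r < 126) :
    del K (tv l) * NM K r - NM K r * del K (tv l) = rval r (tv l) • NM K r := by
  rw [del_tv', Finset.sum_mul, Finset.mul_sum, ← Finset.sum_sub_distrib, rval_def, Finset.sum_smul]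
  refine Finset.sum_congr rfl fun i _ => ?_
  rw [smul_mul_assoc, mul_smul_comm, ← smul_sub, R2.PX.Hi_comm hr i.2, smul_smul, mul_comm]
  rfl

theorem dg_tv (hq : Eqv K) (g : Gh K) (l : Fin 7 → K) : Dg (del K (adM K g *ᵥ tv l)) (wval l) :=
  ⟨_, _, rho_mul_inv g, by rw [hq.conj, del_tv]⟩

/-- an element which acts diagonally is toral -/
theorem eq_tv_of_diag {x : chevE7.Idx → K} (h : ∀ a b, a ≠ b → del K x a b = 0) : x = tv fun i => x (Sum.inl i) := by
  funext i
  rcases i with i | s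
  · rfl
  · obtain ⟨a, b, c, h1, h2⟩ := R2.PX.Tr.exists_entry (show (s : ℕ) < 126 from s.2)
    have h3 := Mu.del_entry x (show (s : ℕ) < 126 from s.2) h1
    rw [h a b fun e => rv_ne (show (s : ℕ) < 126 from s.2) (by
      have h4 := wc_add (show (s : ℕ) < 126 from s.2) h1
      rw [e, left_eq_add] at h4
      rw [rv_def, h4, cv_zero])] at h3
    exact (mul_eq_zero.1 h3.symm).resolve_right (R2.T1.cast_ne h2)

/-! ### the Borel subalgebra -/

theorem rho1_rv {r : ℕ} (hr : r < 126) : (63 ≤ r → 0 < bf rho1 (rv r)) ∧ (r < 63 → bf rho1 (rv r) < 0) := by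
  refine ⟨fun h => rho1_pos hr ((chk_pos r hr).1.1 h), fun h => ?_⟩
  have h1 := rho1_pos (r := 125 - r) (by omega) ((chk_pos _ (by omega)).1.1 (by omega))
  rwa [rv_neg hr, map_neg, neg_pos] at h1

theorem mem_B {x : chevE7.Idx → K} :
    x ∈ Ge K ac rho1 0 ↔ ∀ r : Fin chevE7.nroots, r.val < 63 → x (Sum.inr r) = 0 := by
  refine ⟨fun h r hr => of_not_not fun e => absurd (h _ e) (not_le.2 ((rho1_rv r.2).2 hr)), fun h i hi => ?_⟩
  rcases i with i | r
  · rw [ac_inl, cv_zero, map_zero]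
  · exact ((rho1_rv r.2).1 (not_lt.1 fun e => hi (h r e))).le

theorem mem_N {x : chevE7.Idx → K} : x ∈ Gt K ac rho1 0 ↔
    (∀ i, x (Sum.inl i) = 0) ∧ ∀ r : Fin chevE7.nroots, r.val < 63 → x (Sum.inr r) = 0 := by
  refine ⟨fun h => ⟨fun i => of_not_not fun e => ?_,
    fun r hr => of_not_not fun e => absurd (h _ e) (not_lt.2 ((rho1_rv r.2).2 hr).le)⟩, fun h i hi => ?_⟩
  · have h1 := h _ e
    rw [ac_inl, cv_zero, map_zero] at h1
    exact lt_irrefl _ h1
  · rcases i with i | r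
    · exact absurd (h.1 i) hi
    · exact (rho1_rv r.2).1 (not_lt.1 fun e => hi (h.2 r e))

theorem car_chk : ((List.range 126).all fun r => (List.range 7).any fun i =>
    ((chevE7.cartanSR.getD i #[]).getD r 0).natAbs == 1) = true := by ((try (rewrite [Cfsg.Agent.LsF.nbeq_pat, Cfsg.Agent.LsF.all_eq, Cfsg.Agent.LsF.any_eq, Cfsg.Agent.LsF.range_eq, Cfsg.Agent.LsF.agetD_eq, Cfsg.Agent.LsF.natAbs_eq])); decide +kernel)

/-- every element is conjugate into the Borel subalgebra -/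
theorem borel [IsAlgClosed K] (x : chevE7.Idx → K) : ∃ g, adM K g *ᵥ x ∈ Ge K ac rho1 0 := by
  obtain ⟨g, hg, h⟩ := E8A.Bor.exists_inB e7T.inList (K := K) (fun r => by
    obtain ⟨i, hi, e⟩ := List.any_eq_true.1 (List.all_eq_true.1 car_chk r.val (List.mem_range.2 r.2))
    refine ⟨⟨i, List.mem_range.1 hi⟩, ?_⟩
    rcases Int.natAbs_eq_iff.1 (beq_iff_eq.1 e) with e | e <;> rw [e] <;> simp) x
  obtain ⟨y, hy⟩ := ad_surjective (K := K) ⟨g, hg⟩
  refine ⟨y, mem_B.2 fun r hr => ?_⟩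
  rw [adM_apply, hy]
  exact h r (show 2 * r.val < 126 by omega)

private noncomputable def _root_.Cfsg.Agent.LsF.f8a70ef_0 : {f // @Cfsg.Agent.ChevalleyStructure.Columns.look = f} := ⟨_, by first | (delta Cfsg.Agent.ChevalleyStructure.Columns.look List.brecOn List.brecOn.go Cfsg.Agent.ChevalleyStructure.Columns.look._f; rewrite [Cfsg.Agent.LsF.cond_eq]; (try delta Cfsg.Agent.ChevalleyStructure.Columns.look.match_1); (try delta List.casesOn); first | dsimp -zeta only | exact rfl) | exact rfl⟩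
private noncomputable def _root_.Cfsg.Agent.LsF.f8a70ef_1 : {f // @Cfsg.Agent.ChevalleyStructure.Columns.row = f} := ⟨_, by first | (delta Cfsg.Agent.ChevalleyStructure.Columns.row; rewrite [Cfsg.Agent.LsF.agetD_eq]; exact rfl) | exact rfl⟩
private noncomputable def _root_.Cfsg.Agent.LsF.f8a70ef_2 : {f // @Cfsg.Agent.R2.T1.F7 = f} := ⟨_, by first | (delta Cfsg.Agent.R2.T1.F7; rewrite [Cfsg.Agent.LsF.f8a70ef_0.2, Cfsg.Agent.LsF.f8a70ef_1.2]; exact rfl) | exact rfl⟩
theorem chk_up : ((List.range 126).all fun r => (List.range 126).all fun s => (F7 r s).all fun x =>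
    Nat.blt s 63 || Nat.blt r x.1) = true := by ((try (rewrite [Cfsg.Agent.LsF.f8a70ef_2.2, Cfsg.Agent.LsF.or_eq, Cfsg.Agent.LsF.all_eq, Cfsg.Agent.LsF.range_eq])); decide +kernel)

theorem xs_N {n : chevE7.Idx → K} (hn : n ∈ Gt K ac rho1 0) {r : ℕ} (hr : r < 126) (h63 : 63 ≤ r) (t : K)
    {i : chevE7.Idx} (hi : ∀ u : Fin chevE7.nroots, i = Sum.inr u → u.val ≤ r) : (adM K (xs K r t) *ᵥ n) i = n i := by
  obtain ⟨n1, n2⟩ := mem_N.1 hn
  have h1 : (EM K r *ᵥ n) i = 0 := by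
    by_contra h
    obtain ⟨j, h2, h3⟩ := exists_col h
    rcases j with j | s
    · exact h3 (n1 j)
    have h4 : 63 ≤ s.val := not_lt.1 fun e => h3 (n2 s e)
    rcases i with i | u
    · exact h2 ((EM_lr r i s).trans (if_neg (by omega)))
    · have h5 : cf r s u ≠ 0 := fun e => h2 (by rw [EM_rr, e, Int.cast_zero])
      have h6 := List.all_eq_true.1 (List.all_eq_true.1 chk_up r (List.mem_range.2 hr)) s (List.mem_range.2 s.2)
      rw [cf_ne hr h5, List.all_cons, List.all_nil, Bool.and_true, Bool.or_eq_true, Nat.blt_eq, Nat.blt_eq] at h6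
      have h7 := hi u rfl
      omega
  have h2 : (QM K r *ᵥ n) i = 0 := by
    by_contra h
    obtain ⟨j, h2, h3⟩ := exists_col h
    rcases j with j | s
    · exact h3 (n1 j)
    have h4 : 63 ≤ s.val := not_lt.1 fun e => h3 (n2 s e)
    rcases i with i | u
    · exact h2 (QM_lr r i s)
    · exact h2 ((QM_rr r u s).trans (if_neg (by omega)))
  rw [adM_xs hr, add_mulVec, add_mulVec, one_mulVec, smul_mulVec, smul_mulVec, Pi.add_apply, Pi.add_apply,
    Pi.smul_apply, Pi.smul_apply, h1, h2, smul_zero, smul_zero, add_zero, add_zero]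

/-- the toral part -/
def tp (x : chevE7.Idx → K) : chevE7.Idx → K := tv fun i => x (Sum.inl i)

theorem sub_tp_mem {x : chevE7.Idx → K} (hx : x ∈ Ge K ac rho1 0) : x - tp x ∈ Gt K ac rho1 0 :=
  mem_N.2 ⟨fun _ => sub_self _, fun r hr => by rw [Pi.sub_apply, mem_B.1 hx r hr, tp, tv_inr, sub_zero]⟩

theorem xs_B {x : chevE7.Idx → K} (hx : x ∈ Ge K ac rho1 0) {r : ℕ} (hr : r < 126) (h63 : 63 ≤ r) (t : K)
    {i : chevE7.Idx} (hi : ∀ u : Fin chevE7.nroots, i = Sum.inr u → u.val ≤ r) :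
    (adM K (xs K r t) *ᵥ x) i = x i - t * rval r x * (Pi.single (Sum.inr ⟨r, hr⟩) 1 : chevE7.Idx → K) i := by
  have h1 := xs_N (sub_tp_mem hx) hr h63 t hi
  rw [mulVec_sub, tp, adM_xs_tv hr, Pi.sub_apply, Pi.sub_apply, Pi.sub_apply, Pi.smul_apply, smul_eq_mul] at h1
  have h2 : rval r (tv fun i => x (Sum.inl i)) = rval r x := rfl
  rw [h2] at h1
  linear_combination h1

theorem jord_aux {x : chevE7.Idx → K} (hx : x ∈ Ge K ac rho1 0) (k : ℕ) : ∃ g, adM K g *ᵥ x ∈ Ge K ac rho1 0 ∧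
    ∀ r : Fin chevE7.nroots, r.val < k → (adM K g *ᵥ x) (Sum.inr r) ≠ 0 → rval r (adM K g *ᵥ x) = 0 := by
  induction k with
  | zero => exact ⟨1, by rwa [map_one, one_mulVec], fun r hr => absurd hr (Nat.not_lt_zero _)⟩
  | succ k ih =>
    obtain ⟨g, hB, hg⟩ := ih
    by_cases hc : ∃ r : Fin chevE7.nroots, r.val = k ∧ (adM K g *ᵥ x) (Sum.inr r) ≠ 0 ∧ rval r (adM K g *ᵥ x) ≠ 0
    · obtain ⟨r, rfl, h1, h2⟩ := hc
      have hr : 63 ≤ r.val := not_lt.1 fun e => h1 (mem_B.1 hB r e)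
      obtain ⟨t, ht⟩ : ∃ t : K, t = (adM K g *ᵥ x) (Sum.inr r) / rval r (adM K g *ᵥ x) := ⟨_, rfl⟩
      refine ⟨xs K r t * g, ?_, fun s hs h3 => ?_⟩
      · rw [mulVec_mul]
        exact wrep_L.Ge_stab (xs_mem_Pl r.2 ((rho1_rv r.2).1 hr).le t) hB
      · rw [mulVec_mul] at h3 ⊢
        rw [xs_B hB r.2 hr t (fun u hu => by cases hu; omega)] at h3
        by_cases e : s = r
        · exact absurd (by rw [e, Pi.single_eq_same, mul_one, ht, div_mul_cancel₀ _ h2, sub_self]) h3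
        · rw [Pi.single_eq_of_ne fun e' => e (Sum.inr.inj e'), mul_zero, sub_zero] at h3
          rw [← hg s (by have : s.val ≠ r.val := fun e' => e (Fin.ext e'); omega) h3]
          refine Finset.sum_congr rfl fun i _ => ?_
          rw [xs_B hB r.2 hr t (fun u hu => by cases hu), Pi.single_eq_of_ne Sum.inl_ne_inr, mul_zero, sub_zero]
    · refine ⟨g, hB, fun r hr h1 => ?_⟩
      by_cases e : r.val = k
      · exact of_not_not fun h2 => hc ⟨r, e, h1, h2⟩
      · exact hg r (by omega) h1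

theorem del_root {z : chevE7.Idx → K} (h : ∀ i, z (Sum.inl i) = 0) :
    del K z = ∑ s : Fin chevE7.nroots, z (Sum.inr s) • NM K s := by
  rw [R2.PX.del_apply]
  simp only [h, zero_smul, Finset.sum_const_zero, zero_add]

/-- the positive part of a grading acts by strictly triangular matrices -/
theorem stri_del {β : E} {z : chevE7.Idx → K} (hz : z ∈ Gt K ac β 0) : STri β (del K z) := by
  intro i j h
  have h0 : ∀ i, z (Sum.inl i) = 0 := fun i => of_not_not fun e => by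
    have h1 := hz _ e
    rw [ac_inl, cv_zero, map_zero] at h1
    exact lt_irrefl _ h1
  rw [del_root h0, Matrix.sum_apply] at h
  obtain ⟨s, -, hs⟩ := Finset.exists_ne_zero_of_sum_ne_zero h
  rw [Matrix.smul_apply, smul_eq_mul] at hs
  have h1 : z (Sum.inr s) ≠ 0 := left_ne_zero_of_mul hs
  have h2 : NM K s i j ≠ 0 := right_ne_zero_of_mul hs
  have h3 : (0 : ℝ) < bf β (rv s) := hz (Sum.inr s) h1
  have h4 : wv i = wv j + rv s := NM_ne (show (s : ℕ) < 126 from s.2) h2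
  rw [h4, map_add]
  exact lt_add_of_pos_right _ h3

theorem nilp_del {β : E} {z : chevE7.Idx → K} (hz : z ∈ Gt K ac β 0) : IsNilpotent (del K z) :=
  ⟨_, pow_eq_zero_of_tri (fun i => bf β (wv i)) (stri_del hz)⟩

theorem Eqv.nilp (hq : Eqv K) (g : Gh K) {z : chevE7.Idx → K} (hz : IsNilpotent (del K z)) :
    IsNilpotent (del K (adM K g *ᵥ z)) := by
  obtain ⟨m, hm⟩ := hz
  have h1 : SemiconjBy (rho K g) (del K z ^ m) (del K (adM K g *ᵥ z) ^ m) := SemiconjBy.pow_right (hq g z) m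
  refine ⟨m, ?_⟩
  rw [← mul_one (_ ^ m), ← rho_mul_inv g, ← mul_assoc, ← h1.eq, hm, mul_zero, zero_mul]

theorem Eqv.cm (hq : Eqv K) (g : Gh K) {x y : chevE7.Idx → K} (h : Cm x y) : Cm (adM K g *ᵥ x) (adM K g *ᵥ y) := by
  have h1 : rho K g⁻¹ * rho K g = 1 := by rw [← map_mul, inv_mul_cancel, map_one]
  have h2 : ∀ A B : Matrix D1 D1 K, rho K g * A * rho K g⁻¹ * (rho K g * B * rho K g⁻¹) =
      rho K g * (A * B) * rho K g⁻¹ := fun A B => by
    simp only [mul_assoc]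
    rw [← mul_assoc (rho K g⁻¹), h1, one_mul]
  show del K _ * del K _ = del K _ * del K _
  rw [hq.conj, hq.conj, h2, h2, show del K x * del K y = del K y * del K x from h]

/-! ### Jordan decompositions -/

/-- **a Jordan decomposition** `x = s + z` -/
structure Jd (x s z : chevE7.Idx → K) : Prop where
  sum : x = s + z
  cm : Cm s z
  std : ∃ (g : Gh K) (l : Fin 7 → K), ∃ z0 ∈ Gt K ac rho1 0, s = adM K g *ᵥ tv l ∧ z = adM K g *ᵥ z0

/-- **JORD** -/
theorem jord [IsAlgClosed K] (hq : Eqv K) (x : chevE7.Idx → K) : ∃ s z, Jd x s z := by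
  obtain ⟨g0, h0⟩ := borel x
  obtain ⟨g1, h1, h2⟩ := jord_aux h0 126
  rw [← mulVec_mul] at h1 h2
  obtain ⟨y, hy⟩ : ∃ y, y = adM K (g1 * g0) *ᵥ x := ⟨_, rfl⟩
  rw [← hy] at h1 h2
  refine ⟨_, _, ?_, hq.cm (g1 * g0)⁻¹ (x := tp y) (y := y - tp y) ?_, (g1 * g0)⁻¹, _, _, sub_tp_mem h1, rfl, rfl⟩
  · rw [← mulVec_add, add_sub_cancel, hy, mulVec_inv]
  · show del K _ * del K _ = del K _ * del K _
    rw [del_root (z := y - tp y) fun _ => sub_self _, Finset.mul_sum, Finset.sum_mul, ← sub_eq_zero,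
      ← Finset.sum_sub_distrib]
    refine Finset.sum_eq_zero fun s _ => ?_
    rw [mul_smul_comm, smul_mul_assoc, ← smul_sub, tp, tv_NM _ s.2, Pi.sub_apply, tv_inr, sub_zero]
    by_cases e : y (Sum.inr s) = 0
    · rw [e, zero_smul]
    · rw [show rval s (tv fun i => y (Sum.inl i)) = 0 from h2 s s.2 e, zero_smul, smul_zero]

namespace Jd

variable {x s z x' s' z' : chevE7.Idx → K}

theorem map (h : Jd x s z) (hq : Eqv K) (g : Gh K) : Jd (adM K g *ᵥ x) (adM K g *ᵥ s) (adM K g *ᵥ z) := by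
  obtain ⟨g0, l, z0, h0, h1, h2⟩ := h.std
  exact ⟨by rw [h.sum, mulVec_add], hq.cm g h.cm, g * g0, l, z0, h0, by rw [h1, mulVec_mul], by rw [h2, mulVec_mul]⟩

theorem nilp (h : Jd x s z) (hq : Eqv K) : IsNilpotent (del K z) := by
  obtain ⟨g, l, z0, h0, -, rfl⟩ := h.std
  exact hq.nilp g (nilp_del h0)

theorem jm (h : Jd x s z) (hq : Eqv K) : Jm (del K s) (del K z) := by
  obtain ⟨g, l, z0, -, h1, -⟩ := h.std
  exact ⟨⟨wval l, by rw [h1]; exact dg_tv hq g l⟩, h.nilp hq, h.cm⟩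

theorem del_eq (h : Jd x s z) : del K x = del K s + del K z := by rw [h.sum, map_add]

/-- intertwiners -/
theorem inter (h : Jd x s z) (h' : Jd x' s' z') (hq : Eqv K) {Y : Matrix D1 D1 K} (e : Y * del K x = del K x' * Y) :
    Y * del K s = del K s' * Y ∧ Y * del K z = del K z' * Y := by
  rw [h.del_eq, h'.del_eq] at e
  have h1 := (h.jm hq).inter (h'.jm hq) e
  rw [mul_add, add_mul, h1] at e
  exact ⟨h1, add_left_cancel e⟩

/-- what commutes with `x` commutes with the parts -/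
theorem comm (h : Jd x s z) (hq : Eqv K) {Y : Matrix D1 D1 K} (e : Y * del K x = del K x * Y) :
    Y * del K s = del K s * Y ∧ Y * del K z = del K z * Y := h.inter h hq e

theorem unique (h : Jd x s z) (h' : Jd x s' z') (hq : Eqv K) : s = s' ∧ z = z' := by
  have h1 := h.inter h' hq (Y := 1) (by rw [one_mul, mul_one])
  simp only [one_mul, mul_one] at h1
  exact ⟨Mu.del_injective h1.1, Mu.del_injective h1.2⟩

theorem cm_of (h : Jd x s z) (hq : Eqv K) {y : chevE7.Idx → K} (e : Cm y x) : Cm y s ∧ Cm y z := h.comm hq e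

theorem fix (h : Jd x s z) (hq : Eqv K) {g : Gh K} (e : adM K g *ᵥ x = x) : adM K g *ᵥ s = s ∧ adM K g *ᵥ z = z := by
  have h1 := h.map hq g
  rw [e] at h1
  exact h1.unique h hq

theorem eig (h : Jd x s z) (hq : Eqv K) {v : D1 → K} {c : K} (e : del K x *ᵥ v = c • v) :
    del K s *ᵥ v = c • v ∧ del K z *ᵥ v = 0 := by
  rw [h.del_eq] at e
  have h1 := (h.jm hq).eig e
  rw [add_mulVec, h1] at e
  exact ⟨h1, add_eq_left.1 e⟩

theorem ker (h : Jd x s z) (hq : Eqv K) {v : D1 → K} (e : del K x *ᵥ v = 0) : del K s *ᵥ v = 0 ∧ del K z *ᵥ v = 0 := by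
  have h1 := h.eig hq (c := 0) (by rw [e, zero_smul])
  rwa [zero_smul] at h1

theorem of_nilp (h : Jd x s z) (hq : Eqv K) (hx : IsNilpotent (del K x)) : s = 0 := by
  have h1 := (h.jm hq).inter (S' := diagonal fun _ => 0) (N' := del K x) (Y := 1)
    ⟨⟨_, dg_diag _⟩, hx, by rw [diagonal_zero, zero_mul, mul_zero]⟩ (by
      rw [diagonal_zero, zero_add, one_mul, mul_one, h.del_eq])
  rw [diagonal_zero, zero_mul, one_mul] at h1
  exact Mu.del_inj h1

end Jd

/-- **NIL** -/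
theorem nil [IsAlgClosed K] (hq : Eqv K) {z : chevE7.Idx → K} (hz : IsNilpotent (del K z)) :
    ∃ g : Gh K, ∃ z0 ∈ Gt K ac rho1 0, z = adM K g *ᵥ z0 := by
  obtain ⟨s, n, h⟩ := jord hq z
  obtain ⟨g, l, z0, h0, -, h2⟩ := h.std
  exact ⟨g, z0, h0, by rw [h.sum, h.of_nilp hq hz, zero_add, h2]⟩

end Cfsg.Agent.E7P.La
end

private theorem dce_5a77f1ba99ea : _root_.True := by
  try have : _root_.True := by simp only [_root_.Cfsg.Agent.E7P.La.tp.eq_1]
  exact _root_.True.intro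
end

-- part: E7P/Lie/ATor
section
set_option linter.all false
open scoped Cfsg.Agent.FastGrp

/-!
# S5932, LIE-a (helper76): toral subalgebras

`toral_of_cm` : a commuting space of semisimple elements is conjugate into the standard torus;
`toral_of_ss` : the same for a subalgebra of semisimple elements; `toral, toral'` : **TORAL**.
-/

set_option autoImplicit false
set_option maxRecDepth 100000

namespace Cfsg.Agent.E7P.La

open Cfsg Cfsg.Lie Matrix Module
open Cfsg.Agent.H943.E7V.Block (D1 rho)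
open Cfsg.Agent.R2.T1 Cfsg.Agent.E7P.Kf
open Cfsg.Agent.R2.PX (del)

universe u

variable {K : Type u} [Field K]

theorem cm_tv (l l' : Fin 7 → K) : Cm (tv l) (tv l') := by
  show del K _ * del K _ = del K _ * del K _
  rw [del_tv, del_tv, diagonal_mul_diagonal, diagonal_mul_diagonal]
  exact congrArg diagonal (funext fun a => mul_comm _ _)

/-- a commuting space of semisimple elements has a generic element -/
theorem exists_generic [Infinite K] (hq : Eqv K) (C : Submodule K (chevE7.Idx → K))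
    (hs : ∀ x ∈ C, ∃ g l, x = adM K g *ᵥ tv l) (hc : ∀ x ∈ C, ∀ y ∈ C, Cm x y) :
    ∃ s ∈ C, ∀ x ∈ C, ∀ Y, ad (del K s) Y = 0 → ad (del K x) Y = 0 := by
  obtain ⟨s, h1, h2⟩ := (InvImage.wf (fun x => finrank K (LinearMap.ker (ad (del K x)))) wellFounded_lt).has_min
    (C : Set (chevE7.Idx → K)) ⟨0, zero_mem C⟩
  refine ⟨s, h1, fun x hx Y hY => ?_⟩
  obtain ⟨g, l, e⟩ := hs s h1
  obtain ⟨g', l', e'⟩ := hs x hx
  obtain ⟨t, ht⟩ := Dg.exists_generic (X := del K x) (S := del K s) (by rw [e']; exact dg_tv hq g' l')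
    (by rw [e]; exact dg_tv hq g l) (hc s h1 x hx)
  have h3 : finrank K (LinearMap.ker (ad (del K s))) ≤ finrank K (LinearMap.ker (ad (del K s + t • del K x))) := by
    rw [← map_smul, ← map_add]
    exact not_lt.1 (h2 _ (add_mem h1 (C.smul_mem t hx)))
  have h4 := Submodule.eq_of_le_of_finrank_le (show LinearMap.ker (ad (del K s + t • del K x)) ≤
    LinearMap.ker (ad (del K s)) from fun Z hZ => (ht Z hZ).1) h3
  exact (ht Y (LinearMap.mem_ker.1 (h4.ge (LinearMap.mem_ker.2 hY)))).2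

theorem toral_of_cm [Infinite K] (hq : Eqv K) (C : Submodule K (chevE7.Idx → K))
    (hs : ∀ x ∈ C, ∃ g l, x = adM K g *ᵥ tv l) (hc : ∀ x ∈ C, ∀ y ∈ C, Cm x y) :
    ∃ g : Gh K, ∀ x ∈ C, ∃ l, x = adM K g *ᵥ tv l := by
  obtain ⟨s, h1, h2⟩ := exists_generic hq C hs hc
  obtain ⟨g, l, e⟩ := hs s h1
  refine ⟨g, fun x hx => ?_⟩
  obtain ⟨y, rfl⟩ : ∃ y, x = adM K g *ᵥ y := ⟨adM K g⁻¹ *ᵥ x, by rw [← mulVec_mul, mul_inv_cancel, map_one, one_mulVec]⟩
  refine ⟨_, congrArg _ (eq_tv_of_diag fun a b hab => ?_)⟩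
  have q1 := rho_mul_inv g
  have q2 := mul_eq_one_comm.1 q1
  have h3 := h2 _ hx (rho K g * diagonal (Pi.single a 1) * rho K g⁻¹) (by
    rw [e, hq.conj, ← conj_back q1 (ad _ _), ad_conj q1, conj_back q2, del_tv, ad_apply, diagonal_mul_diagonal,
      diagonal_mul_diagonal, sub_eq_zero.2 (congrArg diagonal (funext fun a => mul_comm _ _)), mul_zero, zero_mul])
  have h4 := ad_conj q1 (del K y) (rho K g * diagonal (Pi.single a 1) * rho K g⁻¹)
  rw [← hq.conj, h3, mul_zero, zero_mul, conj_back q2] at h4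
  have h5 := congrFun (congrFun h4 a) b
  rwa [ad_apply, Matrix.sub_apply, mul_diagonal, diagonal_mul, Pi.single_eq_same, Pi.single_eq_of_ne hab.symm, mul_zero,
    one_mul, zero_sub, Matrix.zero_apply, eq_comm, neg_eq_zero] at h5

/-- a subalgebra of semisimple elements is abelian -/
theorem cm_of_ss (hq : Eqv K) (C : Submodule K (chevE7.Idx → K))
    (hb : ∀ x ∈ C, ∀ y ∈ C, ∀ z, del K z = del K x * del K y - del K y * del K x → z ∈ C)
    (hs : ∀ x ∈ C, ∃ g l, x = adM K g *ᵥ tv l) : ∀ x ∈ C, ∀ y ∈ C, Cm x y := by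
  intro x hx y hy
  by_contra hc
  obtain ⟨g, l, e⟩ := hs x hx
  obtain ⟨_, ⟨v, hv, rfl⟩, h1, i, j, h2, h3⟩ := Dg.exists_eig (X := del K x) (by rw [e]; exact dg_tv hq g l)
    (C.map (del K)) (by
      rintro _ ⟨v, hv, rfl⟩
      obtain ⟨z, hz⟩ := exists_br x v
      exact ⟨z, hb x hx v hv z hz, hz⟩) ⟨y, hy, rfl⟩ fun h => hc (sub_eq_zero.1 h)
  obtain ⟨g', l', e'⟩ := hs v hv
  exact h1 (Dg.eig_zero (X := del K v) (by rw [e']; exact dg_tv hq g' l') h2 h3)

theorem toral_of_ss [Infinite K] (hq : Eqv K) (C : Submodule K (chevE7.Idx → K))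
    (hb : ∀ x ∈ C, ∀ y ∈ C, ∀ z, del K z = del K x * del K y - del K y * del K x → z ∈ C)
    (hs : ∀ x ∈ C, ∃ g l, x = adM K g *ᵥ tv l) : ∃ g : Gh K, ∀ x ∈ C, ∃ l, x = adM K g *ᵥ tv l :=
  toral_of_cm hq C hs (cm_of_ss hq C hb hs)

/-- **TORAL** (closed under nilpotent parts) -/
theorem toral [IsAlgClosed K] (hq : Eqv K) (C : Submodule K (chevE7.Idx → K))
    (hb : ∀ x ∈ C, ∀ y ∈ C, ∀ z, del K z = del K x * del K y - del K y * del K x → z ∈ C)
    (hj : ∀ x ∈ C, ∀ s z, Jd x s z → z ∈ C) (hn : ∀ z ∈ C, IsNilpotent (del K z) → z = 0) :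
    ∃ g : Gh K, ∀ x ∈ C, ∃ l, x = adM K g *ᵥ tv l :=
  toral_of_ss hq C hb fun x hx => by
    obtain ⟨s, z, h⟩ := jord hq x
    obtain ⟨g, l, -, -, e, -⟩ := h.std
    exact ⟨g, l, by rw [h.sum, hn z (hj x hx s z h) (h.nilp hq), add_zero, e]⟩

end Cfsg.Agent.E7P.La
end

-- part: E7P/Nt/White
section
set_option linter.all false
open scoped Cfsg.Agent.FastGrp

/-!
# S5932: white subspaces of the 56-dimensional module (helper9)

* `Kf.nt_bf_wv` : `2 (wv a, wv b) = p2 a b`;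
* `Sit.nt_white_set`, `Sit.nt_white` : **WHITE**, there is no stable set `X ≠ 0` with `DD (X, X) = 0`;
* `Sit.nt_norm` : `M` normalises `A`; `Sit.nt_fix`, `Sit.nt_stb_fix` : the fixed spaces of `A` are stable;
* `Sit.nt_nofixV` : **NoFixV**.
-/

set_option autoImplicit false
set_option maxRecDepth 100000

namespace Cfsg.Agent.E7P

open Cfsg Cfsg.Lie Matrix Module
open Cfsg.Agent.ChevalleyStructure.RootVec
open Cfsg.Agent.H943.E7V.Block (D1 rho)
open Cfsg.Agent.R2.T1 Cfsg.Agent.E7P.Kf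
open Cfsg.Agent.R2.PX (del DD dd p2 mmn W56)

universe u v

namespace Kf

theorem nt_chk_mmn : ∀ s < 240, rt chevE8 s 7 = 1 → ∀ j < 7,
    ((List.range 7).map fun i => chevE8.cartan i s * iC i j).sum = mmn s j := by (rewrite [Cfsg.Agent.ChevFast.E8.cartan]; decide +kernel)

/-- the inner product of two weights -/
theorem nt_bf_wv (a b : D1) : 2 * bf (wv a) (wv b) = (p2 a b : ℝ) := by
  rw [R2.PX.p2_eq, sum7, bf_def]
  push_cast
  simp only [Finset.mul_sum]
  rw [Finset.sum_comm]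
  refine Finset.sum_congr rfl fun j _ => ?_
  rw [← nt_chk_mmn _ (nn_lt a) (rt_nn a) j j.2, sum7]
  push_cast
  rw [Finset.sum_mul]
  refine Finset.sum_congr rfl fun i _ => ?_
  show 2 * (((chevE8.cartan i (nn a) : ℤ) : ℝ) * (((iC i j : ℤ) : ℝ) / 2 * ((chevE8.cartan j (nn b) : ℤ) : ℝ))) = _
  ring

end Kf

namespace Sit

variable {p a b : ℕ} {F : Type u} {K : Type v} {k : Type u} [Field F] [Fintype F] [Field K] [Fintype K] [Field k]
  (S : Sit p a b F K k)

include S in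
theorem nt_two (hp : p ≠ 2) : (2 : k) ≠ 0 := by
  have := S.chark
  exact fun h => hp ((Nat.prime_dvd_prime_iff_eq S.prime Nat.prime_two).1
    ((CharP.cast_eq_zero_iff k p 2).1 (by exact_mod_cast h)))

/-- **WHITE** for sets -/
theorem nt_white_set (hp : p ≠ 2) {X : Set (D1 → k)} (h0 : ∃ x ∈ X, x ≠ 0)
    (hM : ∀ m ∈ S.M, ∀ x ∈ X, rho k m *ᵥ x ∈ X) (hσ : ∀ x ∈ X, S.sv x ∈ X)
    (hD : ∀ x ∈ X, ∀ y ∈ X, DD k x y = 0) : False := by
  have h2 := S.nt_two hp
  obtain ⟨x, hx, hx0⟩ := h0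
  obtain ⟨g, c, hc, e⟩ := Mu.pure_top h2 (hD x hx x hx) hx0
  refine S.kill_unst wrep_V ⟨⟨x, hx, hx0⟩, g⁻¹, wv topv, fun y hy i hi => ?_⟩ hM hσ
  rw [inv_inv, ← V_apply] at hi
  have h1 : DD k (bs k topv) (V k g y) = 0 := by
    have h3 := (Mu.DD_V_iff g).2 (hD x hx y hy)
    rw [e, R2.PX.DD_smul_left] at h3
    exact (smul_eq_zero.1 h3).resolve_left hc
  obtain ⟨h3, h4⟩ := Mu.top_zero h2 h1
  have h5 := nt_bf_wv topv i
  have h6 : 0 < p2 topv i := by
    rcases R2.PX.p2_cases topv i with h | h | h | h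
    · omega
    · omega
    · exact absurd (h3 i (by rw [R2.PX.p2_comm]; exact h)) hi
    · rw [R2.PX.p2_eq_neg_three.1 h] at hi
      exact absurd h4 hi
  have h7 : (0 : ℝ) < p2 topv i := by exact_mod_cast h6
  show 0 < bf (wv topv) (wv i)
  linarith

/-- **WHITE** -/
theorem nt_white (hp : p ≠ 2) {W : Submodule k (D1 → k)} (hW : S.Stb (rho k) W)
    (hD : ∀ x ∈ W, ∀ y ∈ W, DD k x y = 0) : W = ⊥ := by
  by_contra h0
  obtain ⟨x, hx, hx0⟩ := Submodule.exists_mem_ne_zero_of_ne_bot h0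
  exact S.nt_white_set hp (X := W) ⟨x, hx, hx0⟩ hW.1 hW.2 hD

section
variable {I : Type} [Fintype I] [DecidableEq I] {c : I → Fin 7 → ℤ} {R : Gh k →* Matrix I I k}

theorem nt_sv_mulVec (hR : WRep c R) (g : Gh k) (w : I → k) : S.sv (R g *ᵥ w) = R (S.σ g) *ᵥ S.sv w := by
  funext i
  show S.s ((R g *ᵥ w) i) = _
  rw [RingHom.map_mulVec, ← hR.frob]
  rfl

variable (R) in
/-- the vectors which are fixed by `A` -/
def nt_fix : Submodule k (I → k) where
  carrier := {y | ∀ x, R (S.ψ x) *ᵥ y = y}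
  zero_mem' := fun _ => mulVec_zero _
  add_mem' := fun hx hy x => by rw [mulVec_add, hx x, hy x]
  smul_mem' := fun t _ hy x => by rw [mulVec_smul, hy x]

end

include S in
theorem nt_perfect : commutator (SpecialLinearGroup (Fin 2) K) = ⊤ :=
  TwoFusion.SLTwoFacts.commutator_eq_top (by have := S.k_four; omega)

/-- a subgroup which contains all commutators -/
theorem nt_all {T : Subgroup (SpecialLinearGroup (Fin 2) K)} (S : Sit p a b F K k)
    (h : ∀ x y, x * y * x⁻¹ * y⁻¹ ∈ T) (x : SpecialLinearGroup (Fin 2) K) : x ∈ T := by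
  have h1 : commutator (SpecialLinearGroup (Fin 2) K) ≤ T := Subgroup.commutator_le.2 fun x _ y _ => h x y
  rw [S.nt_perfect] at h1
  exact h1 (Subgroup.mem_top x)

theorem nt_center_of_ad {x y : Gh k} (h : ad k x = ad k y) : ∃ z ∈ Subgroup.center (Gh k), x = y * z :=
  ⟨y⁻¹ * x, by rw [← ker_ad, MonoidHom.mem_ker, map_mul, map_inv, h, inv_mul_cancel], by group⟩

theorem nt_comm_center {G : Type*} [Group G] {x y z z' : G} (hz : z ∈ Subgroup.center G) (hz' : z' ∈ Subgroup.center G) :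
    x * z * (y * z') * (x * z)⁻¹ * (y * z')⁻¹ = x * y * x⁻¹ * y⁻¹ := by
  have h1 : x * z * (y * z') * (x * z)⁻¹ = x * (y * z') * x⁻¹ := by
    rw [mul_assoc x, ← Subgroup.mem_center_iff.1 hz]
    group
  rw [h1, show x * (y * z') * x⁻¹ = x * y * (z' * x⁻¹) by group, ← Subgroup.mem_center_iff.1 hz']
  group

/-- `M` normalises `A` -/
theorem nt_norm {m : Gh k} (hm : m ∈ S.M) (x : SpecialLinearGroup (Fin 2) K) : ∃ x', m * S.ψ x * m⁻¹ = S.ψ x' := by
  refine S.nt_all (T := (S.ψ.range.comap (MulAut.conj m).toMonoidHom).comap S.ψ) (fun x y => ?_) x |>.imp fun _ h => h.symm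
  obtain ⟨x', hx⟩ := S.k_norm hm x
  obtain ⟨y', hy⟩ := S.k_norm hm y
  obtain ⟨z, hz, ex⟩ := nt_center_of_ad hx
  obtain ⟨z', hz', ey⟩ := nt_center_of_ad hy
  refine ⟨x' * y' * x'⁻¹ * y'⁻¹, ?_⟩
  show _ = m * S.ψ (x * y * x⁻¹ * y⁻¹) * m⁻¹
  have e : m * S.ψ (x * y * x⁻¹ * y⁻¹) * m⁻¹ = (m * S.ψ x * m⁻¹) * (m * S.ψ y * m⁻¹) * (m * S.ψ x * m⁻¹)⁻¹ *
      (m * S.ψ y * m⁻¹)⁻¹ := by
    simp only [map_mul, map_inv]
    group
  rw [e, ex, ey, nt_comm_center hz hz', map_mul, map_mul, map_mul, map_inv, map_inv]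

section
variable {I : Type} [Fintype I] [DecidableEq I] {c : I → Fin 7 → ℤ} {R : Gh k →* Matrix I I k}

theorem nt_stb_fix (hR : WRep c R) : S.Stb R (S.nt_fix R) := by
  refine ⟨fun m hm y hy x => ?_, fun y hy x => ?_⟩
  · obtain ⟨x', h⟩ := S.nt_norm (inv_mem hm) x
    rw [← mulVec_mul, show S.ψ x * m = m * (m⁻¹ * S.ψ x * m⁻¹⁻¹) by group, h, mulVec_mul, hy x']
  · rw [← S.k_σ_ψ x, ← S.nt_sv_mulVec hR, hy x]

end

/-- **NoFixV** -/
theorem nt_nofixV (hp : p ≠ 2) (h : S.NoFix) : S.NoFixV := by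
  intro y hy
  have h1 : S.nt_fix (rho k) = ⊥ := S.nt_white hp (S.nt_stb_fix wrep_V) fun x hx y hy =>
    (Mu.dd_eq_zero_iff x y).1 (h _ fun g => by rw [Mu.dd_equi (S.nt_two hp), V_apply, V_apply, hx g, hy g])
  exact (Submodule.eq_bot_iff _).1 h1 y hy

end Sit

end Cfsg.Agent.E7P
end

-- part: E7P/J1v/Vec
section
prune_inst 0x7f00000000000000000000000000000000000000000000000000000000000000000000000000000000000000000000000000000000000000000000000000000000000000000000000000000000000000003ffff7fbffffffffffffffffffffbeffbdffbfffff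
set_option linter.all false
open scoped Cfsg.Agent.FastGrp

/-!
# S5932, task J1V: the kernel of an optimal set on the 56-dimensional module (helper82)

* `nform` : a homogeneous vector of non-zero level is conjugate under the Levi subgroup to a vector whose support consists of
  at most three weights with inner products `-1/2`;
* `j1v` : **J1V** (`p` odd), filtered form; `j1v_ker`; `lev_le` : the levels of `V` if the cube of `z` vanishes.
-/

set_option autoImplicit false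
set_option maxRecDepth 100000

namespace Cfsg.Agent.E7P.Jv

open Cfsg Cfsg.Lie Matrix Module
open Cfsg.Agent.H943.E7V.Block (D1 rho)
open Cfsg.Agent.R2.T1 Cfsg.Agent.E7P.Kf Cfsg.Agent.E7P.Br
open Cfsg.Agent.R2.PX (del p2 wr p2_comm p2_self p2_cases p2_eq_three p2_eq_neg_three)
open Cfsg.Agent.ChevalleyStructure.RootVec (rt)

universe u

variable {K : Type u} [Field K]

theorem chk_cor : ∀ r < 126, ∀ i < 7, (chevE7.coroot.getD r #[]).getD i 0 = rt chevE7 r i := by decide +kernel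

theorem bf_wv_rv (a : D1) {r : ℕ} (hr : r < 126) : bf (wv a) (rv r) = (wr r (nn a) : ℝ) := by
  rw [wv, bf_cv_rv _ hr, pc, wr, sum7]
  exact congrArg _ (Finset.sum_congr rfl fun i _ => by rw [chk_cor r hr i i.2]; rfl)

theorem p2_of_add {a b : D1} {r : ℕ} (hr : r < 126) (h : wv a = wv b + rv r) (c : D1) :
    p2 c a = p2 c b + 2 * wr r (nn c) := by
  have h1 := nt_bf_wv c a
  rw [h, map_add, mul_add, nt_bf_wv, bf_wv_rv c hr] at h1
  exact_mod_cast h1.symm

theorem wr_ge {r : ℕ} (hr : r < 126) (a : D1) : -1 ≤ wr r (nn a) := by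
  rcases R2.PX.wr_spec hr a with h | h | h <;> omega

theorem exists_of_wr {r : ℕ} (hr : r < 126) {a : D1} (h : wr r (nn a) < 0) :
    ∃ b c, mv r (nn a) = some (nn b, c) ∧ c * c = 1 := by
  rcases mv_spec hr a with h1 | ⟨b, c, h1, h2, -⟩
  · rcases R2.PX.wr_spec hr a with h2 | h2 | h2
    · exact absurd h1 h2.2.1
    · omega
    · omega
  · exact ⟨b, c, h1, h2⟩

theorem del_p2 {z : chevE7.Idx → K} {a b : D1} (h : del K z a b ≠ 0) : 1 ≤ p2 b a := by
  obtain ⟨i, -, e⟩ := del_wt h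
  rcases i with i | s
  · rw [ac_inl, cv_zero, add_zero] at e
    rw [wv_inj e, p2_self]
    norm_num
  · have h1 := p2_of_add s.2 e b
    have h2 := wr_ge s.2 b
    rw [p2_self] at h1
    omega

/-! ### the normal form -/

/-- the weight `a` is isolated in the support of `x` -/
def Iso (x : D1 → K) (a : D1) : Prop := x a ≠ 0 ∧ ∀ b, x b ≠ 0 → b = a ∨ p2 b a = -1

theorem p2_levi {a : D1} {y : Gh K} (hy : y ∈ Pl K (wv a) ⊓ Pl K (-wv a)) {i j : D1} (h : rho K y i j ≠ 0) :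
    p2 i a = p2 j a := by
  have h1 : bf (wv a) (wv j) ≤ bf (wv a) (wv i) := wrep_V.tri hy.1 i j h
  have h2 : bf (-wv a) (wv j) ≤ bf (-wv a) (wv i) := wrep_V.tri hy.2 i j h
  rw [map_neg, LinearMap.neg_apply, LinearMap.neg_apply] at h2
  have h3 := nt_bf_wv a i
  have h4 := nt_bf_wv a j
  rw [p2_comm i, p2_comm j]
  exact_mod_cast (show (p2 a i : ℝ) = p2 a j by linarith)

theorem Iso.levi {x : D1 → K} {a : D1} (h : Iso x a) {y : Gh K} (hy : y ∈ Pl K (wv a) ⊓ Pl K (-wv a)) :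
    Iso (rho K y *ᵥ x) a := by
  refine ⟨?_, fun b hb => ?_⟩
  · have h1 := h.1
    rw [← mulVec_inv (rho K) y x] at h1
    obtain ⟨j, h2, h3⟩ := exists_col h1
    have h4 := p2_levi (inv_mem hy) h2
    rw [p2_self] at h4
    rwa [p2_eq_three.1 h4.symm] at h3
  · obtain ⟨j, h2, h3⟩ := exists_col hb
    have h4 := p2_levi hy h2
    rcases h.2 j h3 with rfl | h5
    · rw [p2_self] at h4
      exact Or.inl (p2_eq_three.1 h4)
    · exact Or.inr (h4.trans h5)

theorem xs_levi {l : E} {r : ℕ} (hr : r < 126) (h : bf l (rv r) = 0) (t : K) : xs K r t ∈ Pl K l ⊓ Pl K (-l) :=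
  ⟨xs_mem_Pl hr h.ge t, xs_mem_Pl hr (by rw [map_neg, LinearMap.neg_apply, h, neg_zero]) t⟩

/-- **the normal form of a homogeneous vector** -/
theorem nform {β : E} {d : ℝ} (hd : d ≠ 0) {x : D1 → K} (hx : x ∈ Lv K wc β d) :
    ∃ g ∈ Pl K β ⊓ Pl K (-β), ∀ a, (rho K g *ᵥ x) a ≠ 0 → Iso (rho K g *ᵥ x) a := by
  classical
  let N : ↥(Pl K β ⊓ Pl K (-β)) → Finset D1 := fun g => Finset.univ.filter fun a => ¬ Iso (rho K g *ᵥ x) a
  let g := Function.argmin fun g => (N g).card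
  refine ⟨g, g.2, fun a ha => ?_⟩
  by_contra hI
  have hy : rho K g *ᵥ x ∈ Lv K wc β d := levi_Lv wrep_V g.2.1 g.2.2 hx
  set y := rho K g *ᵥ x with hyd
  obtain ⟨h, hP, h1, h2, -⟩ := R2.PX.Tr.clear
    ((Pl K β ⊓ Pl K (-β)) ⊓ ⨅ b : {b // Iso y b}, (Pl K (wv b.1) ⊓ Pl K (-wv b.1))) a ha
    (Finset.univ.filter fun n => p2 n a = 1 ∧ bf β (wv n) = d ∧ ∀ b, Iso y b → p2 n b = -1) (by
      intro n hn
      obtain ⟨-, e1, e2, e3⟩ := Finset.mem_filter.1 hn
      refine ⟨e1, fun r hr c hm t => ?_⟩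
      have e : wv n = wv a + rv r := by rw [wv, wc_add hr hm, cv_add]; rfl
      refine ⟨xs_levi hr ?_ t, Subgroup.mem_iInf.2 fun b => xs_levi hr ?_ t⟩
      · have h3 : bf β (wv a) = d := hy a ha
        rw [e, map_add, h3] at e2
        linarith
      · have h3 := p2_of_add hr e b.1
        have h4 : p2 a b.1 = -1 := (b.2.2 a ha).resolve_left fun h => hI (h ▸ b.2)
        rw [p2_comm _ n, p2_comm _ a, e3 _ b.2, h4] at h3
        rw [bf_wv_rv _ hr]
        exact_mod_cast (show wr r (nn b.1) = 0 by omega))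
  rw [V_apply] at h1
  simp only [V_apply] at h2
  have h3 : ∀ b, Iso y b → Iso (rho K h *ᵥ y) b := fun b hb => hb.levi (Subgroup.mem_iInf.1 hP.2 ⟨b, hb⟩)
  have h4 : rho K h *ᵥ y ∈ Lv K wc β d := levi_Lv wrep_V hP.1.1 hP.1.2 hy
  have h5 : Iso (rho K h *ᵥ y) a := by
    refine ⟨by rw [h1]; exact ha, fun n hn => ?_⟩
    rcases p2_cases n a with h6 | h6 | h6 | h6
    · exact Or.inl (p2_eq_three.1 h6)
    · refine absurd (h2 n (Finset.mem_filter.2 ⟨Finset.mem_univ _, h6, h4 n hn, fun b hb => ?_⟩)) hn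
      refine ((h3 b hb).2 n hn).resolve_left ?_
      rintro rfl
      have h7 : p2 a n = -1 := (hb.2 a ha).resolve_left fun h => hI (h ▸ hb)
      rw [p2_comm] at h7
      omega
    · exact Or.inr h6
    · exfalso
      have h7 : bf β (wv a) = d := hy a ha
      have h8 : bf β (wv n) = d := h4 n hn
      rw [p2_eq_neg_three.1 h6, wv_op, map_neg, h8] at h7
      exact hd (by linarith)
  have e : rho K (h * g) *ᵥ x = rho K h *ᵥ y := mulVec_mul _ _ _ _
  have h6 : N ⟨h * g, mul_mem hP.1 g.2⟩ ⊂ N g := by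
    refine (Finset.ssubset_iff_of_subset fun b hb => ?_).2 ⟨a, Finset.mem_filter.2 ⟨Finset.mem_univ _, hI⟩, fun hb => ?_⟩
    · exact Finset.mem_filter.2 ⟨Finset.mem_univ _, fun h7 => (Finset.mem_filter.1 hb).2 (e ▸ h3 b h7)⟩
    · exact (Finset.mem_filter.1 hb).2 (e ▸ h5)
  exact Function.not_lt_argmin (fun g => (N g).card) _ (Finset.card_lt_card h6)

/-- four weights with inner products `-1/2` have the sum zero -/
theorem four_sum {a b c d : D1} (h1 : p2 a b = -1) (h2 : p2 a c = -1) (h3 : p2 a d = -1) (h4 : p2 b c = -1)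
    (h5 : p2 b d = -1) (h6 : p2 c d = -1) : wv a + wv b + wv c + wv d = 0 := by
  by_contra h
  have h7 := bf_pd.pos _ h
  have e : ∀ x y, bf (wv x) (wv y) = (p2 x y : ℝ) / 2 := fun x y => by
    rw [← nt_bf_wv]
    ring
  simp only [map_add, LinearMap.add_apply, e, p2_self, p2_comm b a, p2_comm c a, p2_comm d a, p2_comm c b, p2_comm d b,
    p2_comm d c, h1, h2, h3, h4, h5, h6] at h7
  norm_num at h7

theorem del_symm (z : chevE7.Idx → K) (a b : D1) :
    (ep a : K) * del K z (op a) b = (ep b : K) * del K z (op b) a := by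
  have h : ∀ a b, sf K (bs K a) (del K z *ᵥ bs K b) = (ep a : K) * del K z (op a) b := fun a b => by
    rw [sf_single, bs, mulVec_single_one, col_apply]
  rw [← h, ← h, sf_swap (bs K b), R2.PX.sf_del, neg_neg]

/-- **the roots of the annihilator of a normal form** -/
theorem supp_nonneg (h2 : (2 : K) ≠ 0) {β : E} {d : ℝ} (hd : d ≠ 0) {x : D1 → K} (hx : x ∈ Lv K wc β d)
    (hI : ∀ a, x a ≠ 0 → Iso x a) {S : Finset D1} (hS : ∀ a, a ∈ S ↔ x a ≠ 0) {z : chevE7.Idx → K} (hz : del K z *ᵥ x = 0)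
    {q : chevE7.Idx} (hq : z q ≠ 0) : 0 ≤ bf (∑ a ∈ S, wv a) (cv (ac q)) := by
  classical
  rcases q with q | r
  · rw [ac_inl, cv_zero, map_zero]
  have hr : r.val < 126 := r.2
  have e0 : bf (∑ a ∈ S, wv a) (cv (ac (Sum.inr r))) = ((∑ a ∈ S, wr r (nn a) : ℤ) : ℝ) := by
    rw [map_sum, LinearMap.sum_apply, Int.cast_sum]
    exact Finset.sum_congr rfl fun a _ => bf_wv_rv a hr
  rw [e0]
  have hp : ∀ {a b}, a ∈ S → b ∈ S → a ≠ b → p2 a b = -1 := fun {a b} ha hb hab =>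
    ((hI b ((hS b).1 hb)).2 a ((hS a).1 ha)).resolve_left hab
  by_contra hc
  have h0 : ∑ a ∈ S, wr r (nn a) < 0 := by exact_mod_cast not_le.1 hc
  obtain ⟨i, hi, hi'⟩ : ∃ i ∈ S, wr r (nn i) < 0 := by
    by_contra h1
    push Not at h1
    exact absurd (Finset.sum_nonneg h1) (not_le.2 h0)
  obtain ⟨b, c, hm, hcc⟩ := exists_of_wr hr hi'
  have e : wv b = wv i + rv r := by rw [wv, wc_add hr hm, cv_add]; rfl
  have hb : del K z b i ≠ 0 := by
    rw [Mu.del_entry z hr hm]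
    exact mul_ne_zero hq (cast_ne hcc)
  obtain ⟨j, hji, hj⟩ : ∃ j, j ≠ i ∧ del K z b j * x j ≠ 0 := by
    by_contra h1
    push Not at h1
    have h3 : ∑ j, del K z b j * x j = 0 := congrFun hz b
    rw [Finset.sum_eq_single i (fun j _ hj => h1 j hj) (fun h => absurd (Finset.mem_univ _) h)] at h3
    exact mul_ne_zero hb ((hS i).1 hi) h3
  have hjS : j ∈ S := (hS j).2 (right_ne_zero_of_mul hj)
  have hj' : 1 ≤ wr r (nn j) := by
    have h3 := del_p2 (left_ne_zero_of_mul hj)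
    have h4 := p2_of_add hr e j
    rw [hp hjS hi hji] at h4
    omega
  obtain ⟨k, hk, hk'⟩ : ∃ k ∈ (S.erase i).erase j, wr r (nn k) < 0 := by
    by_contra h1
    push Not at h1
    have h3 := Finset.sum_nonneg h1
    rw [← Finset.add_sum_erase S _ hi, ← Finset.add_sum_erase _ _ (Finset.mem_erase.2 ⟨hji, hjS⟩)] at h0
    have := wr_ge hr i
    omega
  obtain ⟨hkj, hk⟩ := Finset.mem_erase.1 hk
  obtain ⟨hki, hk⟩ := Finset.mem_erase.1 hk
  have hx3 : x = x i • bs K i + x j • bs K j + x k • bs K k := by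
    funext l
    simp only [Pi.add_apply, Pi.smul_apply, smul_eq_mul]
    by_cases h1 : l = i
    · rw [h1, R2.PX.bs_self, R2.PX.bs_ne hji.symm, R2.PX.bs_ne hki.symm]
      ring
    by_cases h3 : l = j
    · rw [h3, R2.PX.bs_self, R2.PX.bs_ne hji, R2.PX.bs_ne hkj.symm]
      ring
    by_cases h4 : l = k
    · rw [h4, R2.PX.bs_self, R2.PX.bs_ne hki, R2.PX.bs_ne hkj]
      ring
    rw [R2.PX.bs_ne h1, R2.PX.bs_ne h3, R2.PX.bs_ne h4, mul_zero, mul_zero, mul_zero, add_zero, add_zero]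
    by_contra h5
    have hl := (hS l).2 h5
    have h6 := congrArg (bf β) (four_sum (hp hi hjS hji.symm) (hp hi hk hki.symm) (hp hi hl (Ne.symm h1))
      (hp hjS hk hkj.symm) (hp hjS hl (Ne.symm h3)) (hp hk hl (Ne.symm h4)))
    have h7 : ∀ a ∈ S, bf β (wv a) = d := fun a ha => hx a ((hS a).1 ha)
    rw [map_add, map_add, map_add, h7 i hi, h7 j hjS, h7 k hk, h7 l hl, map_zero] at h6
    exact hd (by linarith)
  have hrow : ∀ a, x i * ((ep a : K) * del K z (op a) i) + x j * ((ep a : K) * del K z (op a) j) +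
      x k * ((ep a : K) * del K z (op a) k) = 0 := fun a => by
    have h1 := congrFun hz (op a)
    rw [hx3, mulVec_add, mulVec_add, mulVec_smul, mulVec_smul, mulVec_smul] at h1
    simp only [bs, mulVec_single_one, Pi.add_apply, Pi.smul_apply, smul_eq_mul, col_apply, Pi.zero_apply] at h1
    linear_combination (ep a : K) * h1
  have hdiag : ∀ a, del K z (op a) a = 0 := fun a => by
    by_contra h1
    have h3 := del_p2 h1
    rw [p2_eq_neg_three.2 rfl] at h3
    omega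
  have hbk : b = op k := by
    have h3 := p2_of_add hr e k
    have h4 := wr_ge hr k
    rw [hp hk hi hki] at h3
    exact p2_eq_neg_three.1 (by omega)
  have r1 := hrow i
  have r2 := hrow j
  have r3 := hrow k
  rw [hdiag, del_symm z i j, del_symm z i k] at r1
  rw [hdiag, del_symm z j k] at r2
  rw [hdiag] at r3
  have h3 : 2 * (x i * x k) * ((ep k : K) * del K z (op k) i) = 0 := by
    linear_combination x i * r1 - x j * r2 + x k * r3
  rw [← hbk] at h3
  exact mul_ne_zero (mul_ne_zero h2 (mul_ne_zero ((hS i).1 hi) ((hS k).1 hk))) (mul_ne_zero (cast_ne (ep_sq k)) hb) h3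

/-! ### J1V -/

theorem del_rho (h2 : (2 : K) ≠ 0) (g : Gh K) (z : chevE7.Idx → K) (v : D1 → K) :
    del K (adM K g *ᵥ z) *ᵥ (rho K g *ᵥ v) = rho K g *ᵥ (del K z *ᵥ v) := by
  rw [mulVec_mulVec, ← R2.PX.del_equi h2, mulVec_mulVec]

/-- homogeneous vectors of negative level -/
theorem j1v0 (h2 : (2 : K) ≠ 0) {X : Set (chevE7.Idx → K)} {β : E} (ho : Opt bf (St ac (adM K) X) 1 β) {d : ℝ}
    (hd : d < 0) {v : D1 → K} (hv : v ∈ Lv K wc β d) (h0 : ∀ z ∈ X, del K z *ᵥ v = 0) : v = 0 := by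
  classical
  obtain ⟨g, hg, hI⟩ := nform hd.ne hv
  have o : Opt bf (St ac (adM K) X) (1 * g⁻¹) β := ho.move bf_pd (St_finite _) (St_nonempty (exists_ne_of_opt ho) _)
    (wrep_L.St_le (inv_mem hg.1) 1 ho.1.2)
  have hy : rho K g *ᵥ v ∈ Lv K wc β d := levi_Lv wrep_V hg.1 hg.2 hv
  have h1 : ∀ s ∈ St ac (adM K) X (1 * g⁻¹),
      0 ≤ bf (∑ a ∈ Finset.univ.filter fun a => (rho K g *ᵥ v) a ≠ 0, wv a) s := by
    rintro _ ⟨q, rfl, z, hz, hq⟩
    rw [one_mul, inv_inv] at hq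
    exact supp_nonneg h2 hd.ne hy hI (fun a => by rw [Finset.mem_filter]; exact and_iff_right (Finset.mem_univ a))
      (by rw [del_rho h2, h0 z hz, mulVec_zero]) hq
  have h3 := le_of_hull h1 o.1.1
  by_contra hne
  have h4 : rho K g *ᵥ v ≠ 0 := fun h => hne (by rw [← mulVec_inv (rho K) g v, h, mulVec_zero])
  obtain ⟨a, ha⟩ := Function.ne_iff.1 h4
  rw [bf_symm, map_sum] at h3
  exact absurd h3 (not_le.2 (Finset.sum_neg (fun b hb => (hy b (Finset.mem_filter.1 hb).2).trans_lt hd)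
    ⟨a, Finset.mem_filter.2 ⟨Finset.mem_univ _, ha⟩⟩))

section
variable {β : E} {d e : ℝ} {z : chevE7.Idx → K} {v : D1 → K}

theorem del_Ge (hz : z ∈ Ge K ac β d) (hv : v ∈ Ge K wc β e) : del K z *ᵥ v ∈ Ge K wc β (e + d) :=
  MGe_mulVec (del_MGe.2 hz) hv

theorem del_Lv (hz : z ∈ Lv K ac β d) (hv : v ∈ Lv K wc β e) : del K z *ᵥ v ∈ Lv K wc β (e + d) :=
  Lv_of_Ge (del_Ge (Lv_le_Ge hz) (Lv_le_Ge hv))
    (by rw [neg_add]; exact del_Ge (Lv_le_Ge (mem_Lv_neg.2 hz)) (Lv_le_Ge (mem_Lv_neg.2 hv)))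

/-- the leading term of the action of the Lie algebra -/
theorem lv_del (hz : z ∈ Ge K ac β d) (hv : v ∈ Ge K wc β e) :
    lv wc β (e + d) (del K z *ᵥ v) = del K (lv ac β d z) *ᵥ lv wc β e v := by
  rw [← lv_of_Lv (del_Lv (lv_mem z) (lv_mem v))]
  refine lv_eq_of_sub ?_
  have h : del K z *ᵥ v - del K (lv ac β d z) *ᵥ lv wc β e v =
      del K (z - lv ac β d z) *ᵥ v + del K (lv ac β d z) *ᵥ (v - lv wc β e v) := by
    rw [map_sub, sub_mulVec, mulVec_sub]
    abel
  rw [h]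
  exact add_mem (MGt_mulVec (del_MGt.2 (sub_lv_mem hz)) hv)
    (mulVec_Gt (del_MGe.2 (Lv_le_Ge (lv_mem z))) (sub_lv_mem hv))

end

/-- **J1V** -/
theorem j1v [Infinite K] (h2 : (2 : K) ≠ 0) {X : Set (chevE7.Idx → K)} {g : Gh K} {β : E}
    (ho : Opt bf (St ac (adM K) X) g β) (hβ : Dom β) {v : D1 → K} {e : ℝ} (he : e ≤ bf β β)
    (h : ∀ z ∈ X, rho K g⁻¹ *ᵥ (del K z *ᵥ v) ∈ Ge K wc β e) : rho K g⁻¹ *ᵥ v ∈ Ge K wc β (e - bf β β) := by
  refine mem_Ge_of_step fun d hd hv => mem_Gt_of_lv hv (j1v0 h2 (lead wrep_L ho hβ) (d := d) (by linarith) (lv_mem _) ?_)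
  rintro _ ⟨z, hz, rfl⟩
  rw [← lv_del (Opt_Ge ho hz) hv, del_rho h2]
  exact lv_of_Gt (Ge_le_Gt (by linarith) (h z hz))

/-- **J1V** for the kernel -/
theorem j1v_ker [Infinite K] (h2 : (2 : K) ≠ 0) {X : Set (chevE7.Idx → K)} {g : Gh K} {β : E}
    (ho : Opt bf (St ac (adM K) X) g β) (hβ : Dom β) {v : D1 → K} (h : ∀ z ∈ X, del K z *ᵥ v = 0) :
    rho K g⁻¹ *ᵥ v ∈ Ge K wc β 0 := by
  have h1 := j1v h2 ho hβ (v := v) le_rfl fun z hz => by rw [h z hz, mulVec_zero]; exact zero_mem _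
  rwa [sub_self] at h1

/-- the levels of `V` for an element of nilpotency index `m + 1` -/
theorem lev_le [Infinite K] (h2 : (2 : K) ≠ 0) {z : chevE7.Idx → K} {g : Gh K} {β : E}
    (ho : Opt bf (St ac (adM K) {z}) g β) (hβ : Dom β) {m : ℕ} (hm : del K z ^ (m + 1) = 0) (a : D1) :
    bf β (wv a) ≤ m * bf β β := by
  have hn := bf_pd.nonneg β
  have key : ∀ (j : ℕ) (v : D1 → K), del K z ^ (j + 1) *ᵥ v = 0 → rho K g⁻¹ *ᵥ v ∈ Ge K wc β (-(j * bf β β)) := by
    intro j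
    induction j with
    | zero =>
      intro v hv
      rw [Nat.cast_zero, zero_mul, neg_zero]
      exact j1v_ker h2 ho hβ fun y hy => by rw [hy, ← hv, zero_add, pow_one]
    | succ j ih =>
      intro v hv
      rw [pow_succ, ← mulVec_mulVec] at hv
      have h1 := j1v h2 ho hβ (v := v) (e := -(j * bf β β))
        (by have := mul_nonneg (Nat.cast_nonneg (α := ℝ) j) hn; linarith) fun y hy => by rw [hy]; exact ih _ hv
      rwa [show -(j * bf β β) - bf β β = -(((j + 1 : ℕ) : ℝ) * bf β β) by push_cast; ring] at h1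
  have h1 := key m (rho K g *ᵥ bs K (op a)) (by rw [hm, zero_mulVec]) (op a) (by
    rw [mulVec_inv, R2.PX.bs_self]
    exact one_ne_zero)
  have h3 : bf β (cv (wc (op a))) = - bf β (wv a) := by rw [← map_neg, ← wv_op]; rfl
  rw [h3] at h1
  linarith

end Cfsg.Agent.E7P.Jv

private theorem dce_2f5f05ba4c4d : _root_.True := by
  try have : _root_.True := by simp only [_root_.Cfsg.Agent.R2.PX.wr.eq_1]
  exact _root_.True.intro
end

-- part: E7P/J1v/Nil
section
prune_inst 0x7f00000000000000000000000000000000000000000000000000000000000000000000000000000000000000000000000000000000000000000000000000000000000000000000000000000000000000003fffffffffffffffffffffffffffbeffbdffffffff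
set_option linter.all false
open scoped Cfsg.Agent.FastGrp

/-!
# S5932, tasks NF3 and ANN3 (helper82)

* `Jv.two_dim` : `PSL₂(K)` has no non-trivial representation of dimension at most 2 in odd characteristic;
* `Jv.kempf3` : the optimal pair of an element of cube zero;
* `Sit.jv_nf_nil`, `Sit.jv_ann_nil` : no nilpotent elements in `g^A`, in the annihilator of a stable subspace (`p = 3`);
* `Sit.nofix3`, `Sit.ann3` from `Sit.JvNFT`.
-/

set_option autoImplicit false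
set_option maxRecDepth 100000

namespace Cfsg.Agent.E7P

open Cfsg Cfsg.Lie Matrix Module
open Cfsg.Agent.H943.E7V.Block (D1 rho)
open Cfsg.Agent.R2.T1 Cfsg.Agent.E7P.Kf Cfsg.Agent.E7P.Br
open Cfsg.Agent.R2.PX (del)
open Cfsg.Agent.R2.H9.E6 (pq)
open Cfsg.Agent.H943.SL2Rel (u w h)
open Cfsg.Agent.ChevalleyStructure.RootVec (rt)

universe u v

namespace Jv

/-- `SL₂` is generated by the unipotent elements and the Weyl element -/
theorem gen_uw {K : Type*} [Field K] {P : _root_.Matrix.SpecialLinearGroup (Fin 2) K → Prop} (hu : ∀ t, P (u t)) (hw : P w)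
    (hm : ∀ a b, P a → P b → P (a * b)) (g : _root_.Matrix.SpecialLinearGroup (Fin 2) K) : P g := by
  refine H943.SL2Rel.induct hu (fun a => ?_) hw hm g
  have h0 : -(a : K)⁻¹ ≠ 0 := neg_ne_zero.2 (inv_ne_zero a.ne_zero)
  have h1 := H943.SL2Rel.w_u_w _ h0
  have h2 : H943.SL2Rel.mi _ h0 = a := Units.ext (by simp [H943.SL2Rel.mi])
  have h3 : (w : _root_.Matrix.SpecialLinearGroup (Fin 2) K)⁻¹ = w * w * w := by
    rw [inv_eq_iff_mul_eq_one, ← mul_assoc, ← mul_assoc, mul_assoc (w * w), H943.SL2Rel.w_w, ← H943.SL2Rel.h_mul, neg_mul_neg,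
      one_mul, H943.SL2Rel.h_one]
  have h4 : h a = u (- -(-(a : K)⁻¹)⁻¹) * (w * u (-(a : K)⁻¹) * w) * u (- -(-(a : K)⁻¹)⁻¹) * (w * w * w) := by
    rw [h1, h2, H943.SL2Rel.u_neg, ← h3]
    group
  rw [h4]
  exact hm _ _ (hm _ _ (hm _ _ (hu _) (hm _ _ (hm _ _ hw (hu _)) hw)) (hu _)) (hm _ _ (hm _ _ hw hw) hw)

theorem inv_two {k M : Type*} [Field k] [AddCommGroup M] [Module k M] [FiniteDimensional k M] (h2 : (2 : k) ≠ 0)
    (hd : finrank k M ≤ 2) {T : Module.End k M} (hT : T * T = 1) (h1 : LinearMap.det T = 1) : T = 1 ∨ T = -1 := by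
  by_contra hc
  obtain ⟨hc1, hc2⟩ := not_or.1 hc
  obtain ⟨x, hx⟩ := DFunLike.ne_iff.1 hc1
  obtain ⟨y, hy⟩ := DFunLike.ne_iff.1 hc2
  have e : ∀ x, T (T x) = x := fun x => DFunLike.congr_fun hT x
  have ha : T (T x - x) = (-1 : k) • (T x - x) := by rw [map_sub, e, neg_one_smul, neg_sub]
  have hb : T (T y + y) = T y + y := by rw [map_add, e, add_comm]
  have ha0 : T x - x ≠ 0 := sub_ne_zero.2 hx
  have hb0 : T y + y ≠ 0 := fun h => hy (eq_neg_of_add_eq_zero_left h)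
  generalize T x - x = a at ha ha0
  generalize T y + y = b at hb hb0
  have hl : LinearIndependent k ![a, b] := LinearIndependent.pair_iff.2 fun s t hst => by
    have h3 := congrArg T hst
    rw [map_add, map_smul, map_smul, ha, hb, map_zero] at h3
    have h4 : (2 * t) • b = 0 := by
      have h4 : s • a + t • b + (s • (-1 : k) • a + t • b) = (2 * t) • b := by module
      rw [← h4, hst, h3, add_zero]
    have h5 : t = 0 := (mul_eq_zero.1 ((smul_eq_zero.1 h4).resolve_right hb0)).resolve_left h2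
    rw [h5, zero_smul, add_zero] at hst
    exact ⟨(smul_eq_zero.1 hst).resolve_right ha0, h5⟩
  have hcard : Fintype.card (Fin 2) = finrank k M := le_antisymm hl.fintype_card_le_finrank (by rwa [Fintype.card_fin])
  let B := basisOfLinearIndependentOfCardEqFinrank hl hcard
  have hB0 : B 0 = a := by simp [B]
  have hB1 : B 1 = b := by simp [B]
  rw [← LinearMap.det_toMatrix B, det_fin_two] at h1
  simp only [LinearMap.toMatrix_apply] at h1
  rw [hB0, hB1, ha, hb, ← hB0, ← hB1] at h1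
  simp only [_root_.Nat.succ_eq_add_one, _root_.Nat.reduceAdd, _root_.Fin.isValue, _root_.neg_smul, _root_.one_smul, _root_.map_neg, _root_.Module.Basis.repr_self, _root_.Finsupp.coe_neg, _root_.Pi.neg_apply, _root_.Finsupp.single_eq_same, _root_.mul_one, _root_.ne_eq, _root_.zero_ne_one, _root_.not_false_eq_true, _root_.Finsupp.single_eq_of_ne, _root_.one_ne_zero, _root_.neg_zero, _root_.MulZeroClass.mul_zero, _root_.sub_zero] at h1
  exact h2 (by linear_combination -h1)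

theorem triv_of_comm {G N : Type*} [Group G] [Monoid N] (hp : commutator G = ⊤) (f : G →* N)
    (hf : ∀ a b, f a * f b = f b * f a) (x : G) : f x = 1 := by
  have h1 : commutator G ≤ f.ker := Subgroup.commutator_le.2 fun a _ b _ => by
    rw [MonoidHom.mem_ker, commutatorElement_def, map_mul, map_mul, map_mul, hf a b, mul_assoc (f b), ← map_mul,
      mul_inv_cancel, map_one, mul_one, ← map_mul, mul_inv_cancel, map_one]
  rw [hp] at h1
  exact h1 (Subgroup.mem_top x)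

/-- **representations of dimension at most 2** -/
theorem two_dim {K k : Type*} [Field K] [Field k] (h2 : (2 : k) ≠ 0)
    (hp : commutator (_root_.Matrix.SpecialLinearGroup (Fin 2) K) = ⊤) {I : Type*} [Fintype I] [DecidableEq I]
    (R : _root_.Matrix.SpecialLinearGroup (Fin 2) K →* Matrix I I k) (hw : R w * R w = 1) {W : Submodule k (I → k)}
    (hd : finrank k W ≤ 2) (hW : ∀ x, ∀ y ∈ W, R x *ᵥ y ∈ W) (x : _root_.Matrix.SpecialLinearGroup (Fin 2) K) {y : I → k} (hy : y ∈ W) :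
    R x *ᵥ y = y := by
  let ρ : _root_.Matrix.SpecialLinearGroup (Fin 2) K →* Module.End k W :=
    { toFun := fun x => (toLin' (R x)).restrict (hW x)
      map_one' := LinearMap.ext fun y => Subtype.ext (by
        show R 1 *ᵥ y.1 = y.1
        rw [map_one, one_mulVec])
      map_mul' := fun a b => LinearMap.ext fun y => Subtype.ext (by
        show R (a * b) *ᵥ y.1 = R a *ᵥ (R b *ᵥ y.1)
        rw [map_mul, mulVec_mulVec]) }
  have h1 : ρ w * ρ w = 1 := LinearMap.ext fun y => Subtype.ext (by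
    show R w *ᵥ (R w *ᵥ y.1) = y.1
    rw [mulVec_mulVec, hw, one_mulVec])
  have h3 : ∀ A, Commute (ρ w) A := fun A => by
    rcases inv_two h2 hd h1 (triv_of_comm hp (LinearMap.det.comp ρ) (fun _ _ => mul_comm _ _) w) with h | h <;> rw [h]
    · exact Commute.one_left A
    · exact LinearMap.ext fun y => (map_neg A y).symm
  have h4 : ∀ s a, Commute (ρ a) (ρ (u s)) := fun s => gen_uw
    (fun t => by rw [Commute, SemiconjBy, ← map_mul, ← map_mul, ← H943.SL2Rel.u_add, ← H943.SL2Rel.u_add, add_comm])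
    (h3 _) fun a b ha hb => by rw [map_mul]; exact ha.mul_left hb
  have h5 : ∀ b a, Commute (ρ a) (ρ b) := fun b => gen_uw (fun t => (h4 t b).symm) (h3 _)
    fun a a' ha ha' => by rw [map_mul]; exact ha.mul_left ha'
  exact congrArg Subtype.val (DFunLike.congr_fun (triv_of_comm hp ρ (fun a b => h5 b a) x) ⟨y, hy⟩)

variable {K : Type u} [Field K]

theorem chk_top : ∀ r < 126, ∀ j < 7, rt chevE7 r j ≤ rt chevE7 125 j := by decide +kernel

/-- the highest root has the highest level -/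
theorem le_top {β : E} (hβ : Dom β) {r : ℕ} (hr : r < 126) : bf β (rv r) ≤ bf β (rv 125) := by
  rw [bf_rv _ hr, bf_rv _ (by norm_num)]
  exact Finset.sum_le_sum fun j _ => mul_le_mul_of_nonneg_left (by exact_mod_cast chk_top r hr j j.2) (hβ j)

theorem bf_top (β : E) : bf β (rv 125) = 2 * β 0 + 2 * β 1 + 3 * β 2 + 4 * β 3 + 3 * β 4 + 2 * β 5 + β 6 := by
  have h : ∀ j : Fin 7, rt chevE7 125 j = ![2, 2, 3, 4, 3, 2, 1] j := by decide +kernel
  rw [bf_rv _ (by norm_num)]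
  simp only [h, Fin.sum_univ_seven]
  simp only [_root_.Fin.isValue, _root_.Nat.succ_eq_add_one, _root_.Nat.reduceAdd, _root_.Matrix.cons_val_zero, _root_.Int.cast_ofNat, _root_.Matrix.cons_val_one, _root_.Matrix.cons_val, _root_.Int.cast_one, _root_.mul_one, _root_.add_left_inj]
  ring

theorem bf_topv (β : E) : bf β (wv topv) =
    β 0 + 3 / 2 * β 1 + 2 * β 2 + 3 * β 3 + 5 / 2 * β 4 + 2 * β 5 + 3 / 2 * β 6 := by
  have h : ∀ j : Fin 7, wc topv j = ![0, 0, 0, 0, 0, 0, 1] j := by decide +kernel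
  rw [bf_expl]
  simp only [wv, cv, h]
  simp only [_root_.Fin.isValue, _root_.Nat.succ_eq_add_one, _root_.Nat.reduceAdd, _root_.Matrix.cons_val_zero, _root_.Int.cast_zero, _root_.MulZeroClass.mul_zero, _root_.Matrix.cons_val_one, _root_.add_zero, _root_.Matrix.cons_val, _root_.Int.cast_one, _root_.zero_add, _root_.mul_one]
  ring

/-- **the optimal pair of an element of cube zero** -/
theorem kempf3 [IsAlgClosed K] (h2 : (2 : K) ≠ 0) (h3 : (3 : K) = 0) {C : Set (chevE7.Idx → K)}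
    (hC : ∀ z ∈ C, ∀ w, del K w = del K z * del K z * del K z → w ∈ C) {z : chevE7.Idx → K} (hz : z ∈ C) (h0 : z ≠ 0)
    (hn : IsNilpotent (del K z)) : ∃ y ∈ C, y ≠ 0 ∧ ∃ (g : Gh K) (β : E), 0 < bf β β ∧ Dom β ∧
      Opt bf (_root_.Cfsg.Agent.E7P.Kf.St ac (adM K) {y}) g β ∧ (∀ x, adM K x *ᵥ y = y → g⁻¹ * x * g ∈ Pl K β) ∧
      ∀ a, bf β (wv a) ≤ 2 * bf β β := by
  obtain ⟨y, hy, hy0, e⟩ := Lb.exists_cube_zero h3 hC hz h0 hn
  rw [← pow_three'] at e
  obtain ⟨g0, z0, h4, h5⟩ := La.nil (La.eqv h2) (z := y) ⟨3, e⟩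
  obtain ⟨g, β, h6, h7, ho, h8, -⟩ := wrep_L.kempf (X := {y}) ⟨⟨y, rfl, hy0⟩, g0, rho1, fun v hv i hi => by
    rw [hv, h5, mulVec_inv] at hi
    exact h4 i hi⟩
  refine ⟨y, hy, hy0, g, β, bf_pd.pos _ h6, h7, ho, fun x hx => h8 x fun v hv => ?_, fun a => ?_⟩
  · have h9 := mulVec_inv (adM K) x y
    rw [hx] at h9
    rw [hv]
    exact h9
  · exact_mod_cast lev_le h2 ho h7 (m := 2) e a

theorem xs_pow {p : ℕ} [CharP K p] (r : ℕ) (t : K) : xs K r t ^ p = 1 := by
  have h1 : ∀ n : ℕ, xs K r t ^ n = xs K r (n * t) := fun n => by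
    induction n with
    | zero => rw [pow_zero, Nat.cast_zero, zero_mul, xs_zero]
    | succ n ih => rw [pow_succ, ih, xs_mul, Nat.cast_succ, add_mul, one_mul]
  rw [h1, CharP.cast_eq_zero, zero_mul, xs_zero]

theorem xs_ne {r : ℕ} (hr : r < 126) : xs K r 1 ≠ 1 := fun h => by
  have h1 := rho_xs' hr (1 : K)
  rw [h, map_one, one_smul, left_eq_add] at h1
  obtain ⟨i, j, h2⟩ := exists_NM_ne (K := K) hr
  exact h2 (by rw [h1]; rfl)

theorem xs_comm (h2 : (2 : K) ≠ 0) {r : ℕ} (hr : r < 126) {g : Gh K}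
    (h : adM K g *ᵥ Pi.single (Sum.inr ⟨r, hr⟩) 1 = Pi.single (Sum.inr ⟨r, hr⟩) 1) (t : K) : g * xs K r t = xs K r t * g := by
  have h1 := R2.PX.del_equi h2 g (Pi.single (Sum.inr ⟨r, hr⟩) 1)
  rw [h, R2.PX.del_inr] at h1
  apply rho_injective
  rw [map_mul, map_mul, rho_xs' hr, mul_add, add_mul, mul_one, one_mul, mul_smul_comm, smul_mul_assoc, h1]

/-- the top level of the first and of the third fundamental coweight -/
theorem finrank_top {i : Fin 7} (hi : i = 0 ∨ i = 2) :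
    finrank K (Ge K ac (Pi.single i 1) (bf (Pi.single i 1) (rv 125))) ≤ 2 := by
  classical
  have e : ∀ r < 126, bf (Pi.single i 1) (rv r) = (rt chevE7 r i : ℝ) := fun r hr => by
    rw [bf_rv _ hr, Finset.sum_eq_single i (fun j _ hj => by rw [Pi.single_eq_of_ne hj, zero_mul])
      (fun h => absurd (Finset.mem_univ _) h), Pi.single_eq_same, one_mul]
  have h1 : ∀ r < 126, (rt chevE7 125 0 ≤ rt chevE7 r 0 ∨ rt chevE7 125 2 ≤ rt chevE7 r 2) → r = 124 ∨ r = 125 := by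
    decide +kernel
  let a : chevE7.Idx := Sum.inr ⟨124, by decide⟩
  let b : chevE7.Idx := Sum.inr ⟨125, by decide⟩
  let f : Ge K ac (Pi.single i 1) (bf (Pi.single i 1) (rv 125)) →ₗ[K] K × K :=
    ((LinearMap.proj a).prod (LinearMap.proj b)) ∘ₗ Submodule.subtype _
  have hf : Function.Injective f := (injective_iff_map_eq_zero f).2 fun x hx => Subtype.ext (funext fun q => by
    by_contra hq
    have h2 := x.2 q hq
    rw [e 125 (by norm_num)] at h2
    rcases q with q | r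
    · rw [ac_inl, cv_zero, map_zero] at h2
      have h3 : (1 : ℝ) ≤ (rt chevE7 125 i : ℝ) := by exact_mod_cast rt_top i i.2
      linarith
    · have h3 : (rt chevE7 125 i : ℝ) ≤ (rt chevE7 r i : ℝ) := h2.trans_eq (e r r.2)
      have h4 : rt chevE7 125 i ≤ rt chevE7 r i := by exact_mod_cast h3
      rcases h1 r r.2 (by rcases hi with rfl | rfl; exacts [Or.inl h4, Or.inr h4]) with h5 | h5
      · exact hq ((congrArg (fun s => x.1 (Sum.inr s)) (Fin.ext h5)).trans (congrArg Prod.fst hx))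
      · exact hq ((congrArg (fun s => x.1 (Sum.inr s)) (Fin.ext h5)).trans (congrArg Prod.snd hx)))
  have h2 := LinearMap.finrank_le_finrank_of_injective hf
  rwa [finrank_prod, finrank_self] at h2

end Jv

namespace Sit

variable {p a b : ℕ} {F : Type u} {K : Type v} {k : Type u} [Field F] [Fintype F] [Field K] [Fintype K] [Field k]
  (S : Sit p a b F K k)

include S in
theorem jv_three (hp : p = 3) : (3 : k) = 0 := by
  have := S.chark
  subst hp
  exact_mod_cast CharP.cast_eq_zero k 3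

theorem jv_adM_ww : adM k (S.ψ (w * w)) = 1 := by
  have h1 : pq (w * w : _root_.Matrix.SpecialLinearGroup (Fin 2) K) = 1 := (QuotientGroup.eq_one_iff _).2
    (Subgroup.mem_center_iff.2 fun g => by
      have e : (w * w : _root_.Matrix.SpecialLinearGroup (Fin 2) K) = -1 := Subtype.ext (by
        rw [H943.SL2Rel.w_w]
        ext i j
        (revert i j; simp only [h, _root_.Fin.forall_fin_succ, _root_.Units.val_neg, _root_.Units.val_one, _root_.inv_neg, _root_.inv_one, _root_.Matrix.of_apply, _root_.Matrix.cons_val', _root_.Matrix.cons_val_fin_one, _root_.Matrix.SpecialLinearGroup.coe_neg, _root_.Matrix.SpecialLinearGroup.coe_one, _root_.Matrix.neg_apply, Fin.isValue, _root_.Matrix.cons_val_zero, _root_.Matrix.cons_val_succ, _root_.IsEmpty.forall_iff, _root_.and_true, _root_.Matrix.one_apply_eq, Nat.reduceAdd, _root_.Fin.succ_zero_eq_one, _root_.ne_eq, _root_.zero_ne_one, _root_.not_false_eq_true, _root_.Matrix.one_apply_ne, _root_.neg_zero,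 _root_.and_self, _root_.Fin.succ_ne_zero, _root_.neg_inj, _root_.true_and]))
      rw [e, mul_neg, neg_mul, mul_one, one_mul])
  show adM k (emb S.f (S.ψ0 (w * w))) = 1
  rw [adM_emb, adM_apply, S.lift, h1, map_one]
  exact Matrix.map_one _ (map_zero _) (map_one _)

theorem jv_cent {g c : Gh k} (h : ∀ x, g⁻¹ * S.ψ x * g * c = c * (g⁻¹ * S.ψ x * g)) : S.Cent (g * c * g⁻¹) := fun x => by
  rw [show S.ψ x * (g * c * g⁻¹) = g * (g⁻¹ * S.ψ x * g * c) * g⁻¹ by group, h]
  group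

/-- `A` is not contained in the first or the third maximal parabolic subgroup -/
theorem jv_par (hp : p ≠ 2) (hc : S.CK) {i : Fin 7} (hi : i = 0 ∨ i = 2) {g : Gh k}
    (hg : ∀ x, g⁻¹ * S.ψ x * g ∈ Pl k (Pi.single i 1)) : False := by
  have := S.chark
  have h2 := S.nt_two hp
  have h125 : 125 < 126 := by norm_num
  let R : _root_.Matrix.SpecialLinearGroup (Fin 2) K →* Matrix chevE7.Idx chevE7.Idx k :=
    (adM k).comp ((MulAut.conj g⁻¹).toMonoidHom.comp S.ψ)
  have e : ∀ x, R x = adM k (g⁻¹ * S.ψ x * g) := fun x => by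
    show adM k (g⁻¹ * S.ψ x * g⁻¹⁻¹) = _
    rw [inv_inv]
  have h1 : ∀ x, adM k (g⁻¹ * S.ψ x * g) *ᵥ Pi.single (Sum.inr ⟨125, h125⟩) 1 = Pi.single (Sum.inr ⟨125, h125⟩) 1 :=
    fun x => by
      rw [← e]
      refine Jv.two_dim h2 S.nt_perfect R ?_ (Jv.finrank_top hi) (fun x y hy => ?_) x fun q hq => ?_
      · rw [← map_mul, e, map_mul, map_mul, S.jv_adM_ww, mul_one, ← map_mul, inv_mul_cancel, map_one]
      · rw [e]
        exact wrep_L.Ge_stab (hg x) hy
      · have h3 : q = Sum.inr ⟨125, h125⟩ := by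
          by_contra h3
          exact hq (Pi.single_eq_of_ne h3 _)
        rw [h3]
        exact le_rfl
  have h3 := hc _ (S.jv_cent fun x => Jv.xs_comm h2 h125 (h1 x) 1) (by rw [conj_pow, Jv.xs_pow, mul_one, mul_inv_cancel])
  exact Jv.xs_ne h125 (conj_eq_one_iff.1 h3)

/-- **NF3**, the nilpotent elements -/
theorem jv_nf_nil (hp : p = 3) (hc : S.CK) {z : chevE7.Idx → k} (hz : ∀ x, adM k (S.ψ x) *ᵥ z = z)
    (hn : IsNilpotent (del k z)) : z = 0 := by
  have := S.closed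
  have := S.chark
  have hp2 : p ≠ 2 := by omega
  have h2 := S.nt_two hp2
  by_contra h0
  obtain ⟨y, hy, hy0, g, β, hβ0, hβ, ho, hP, hV⟩ := Jv.kempf3 h2 (S.jv_three hp) (C := S.nt_fix (adM k))
    (fun z hz w hw x => Lb.cube_fix h2 hw (hz x)) hz h0 hn
  have hA : ∀ x, g⁻¹ * S.ψ x * g ∈ Pl k β := fun x => hP _ (hy x)
  have h1 : ∀ i, i = 0 ∨ i = 2 → β i = 0 := fun i hi => by
    by_contra h1
    refine S.jv_par hp2 hc hi fun x => Pl_le_of_supp hβ (fun j => ?_) (fun j hj => ?_) (hA x)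
    · by_cases h3 : j = i
      · rw [h3, Pi.single_eq_same]
        exact zero_le_one
      · rw [Pi.single_eq_of_ne h3]
    · exact Pi.single_eq_of_ne (show j ≠ i from fun h3 => h1 (h3 ▸ hj)) _
  have hM : ∀ r < 126, bf β (rv r) < 3 * bf β β := fun r hr => by
    have h3 := Jv.le_top hβ hr
    have h4 := hV topv
    rw [Jv.bf_top, h1 0 (Or.inl rfl), h1 2 (Or.inr rfl)] at h3
    rw [Jv.bf_topv, h1 0 (Or.inl rfl), h1 2 (Or.inr rfl)] at h4
    have := hβ 4
    have := hβ 5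
    have := hβ 6
    linarith
  have h3 := Opt_Ge ho rfl
  obtain ⟨c, hc1⟩ := Lb.exp3 h2 hβ0 h3
  have h4 : c ≠ 1 := hc1.ne_one' hβ0 hM h3 fun h => hy0 (by rw [← mulVec_inv' (adM k) g y, h, mulVec_zero])
  obtain ⟨n, h5, h6⟩ := Lb.exists_pow_p S.prime hc1.1 h4
  have h7 : ∀ x, Commute (g⁻¹ * S.ψ x * g) c := fun x => hc1.comm h2 hβ0 hM (hA x) (by
    rw [mulVec_mul, mulVec_inv', mulVec_mul, hy x])
  exact h5 (conj_eq_one_iff.1 (hc _ (S.jv_cent fun x => (h7 x).pow_right n) (by rw [conj_pow, h6, mul_one, mul_inv_cancel])))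

/-- **ANN3**, the nilpotent elements -/
theorem jv_ann_nil (hp : p = 3) (ht : S.PT (rho k)) {W : Submodule k (D1 → k)} (hW : S.Stb (rho k) W)
    (hA : ∃ x, ∃ y ∈ W, rho k (S.ψ x) *ᵥ y ≠ y) {z : chevE7.Idx → k} (hz : ∀ y ∈ W, del k z *ᵥ y = 0)
    (hn : IsNilpotent (del k z)) : z = 0 := by
  have := S.closed
  have := S.chark
  have hp2 : p ≠ 2 := by omega
  have h2 := S.nt_two hp2
  by_contra h0
  obtain ⟨y, hy, hy0, g, β, hβ0, hβ, ho, -, hV⟩ := Jv.kempf3 h2 (S.jv_three hp) (C := {z | ∀ y ∈ W, del k z *ᵥ y = 0})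
    (fun z hz w hw y hy => by rw [hw, ← mulVec_mulVec, hz y hy, mulVec_zero]) hz h0 hn
  have h1 : ∀ v ∈ W, rho k g⁻¹ *ᵥ v ∈ Ge k wc β 0 := fun v hv => Jv.j1v_ker h2 ho hβ fun x hx => by rw [hx]; exact hy v hv
  have h3 : ∀ d, 2 * bf β β < d → ∀ v ∈ Ge k wc β d, v = 0 := fun d hd v hv => funext fun i => by
    by_contra hi
    exact absurd ((hv i hi).trans (hV i)) (not_le.2 hd)
  have key : ∀ c : Gh k, (∀ v ∈ W, rho k c *ᵥ (rho k g⁻¹ *ᵥ v) = rho k g⁻¹ *ᵥ v) → c ^ p = 1 → c = 1 := fun c h4 h5 =>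
    conj_eq_one_iff.1 (ht W hW hA (g * c * g⁻¹) (fun v hv => by rw [mulVec_mul, mulVec_mul, h4 v hv, mulVec_inv'])
      (by rw [conj_pow, h5, mul_one, mul_inv_cancel]))
  by_cases hM : ∀ r < 126, bf β (rv r) < 3 * bf β β
  · have h4 := Opt_Ge ho rfl
    obtain ⟨c, hc1⟩ := Lb.exp3 h2 hβ0 h4
    have h5 : c ≠ 1 := hc1.ne_one' hβ0 hM h4 fun h => hy0 (by rw [← mulVec_inv' (adM k) g y, h, mulVec_zero])
    obtain ⟨n, h6, h7⟩ := Lb.exists_pow_p S.prime hc1.1 h5
    refine h6 (key _ (fun v hv => ?_) h7)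
    have h8 : rho k c *ᵥ (rho k g⁻¹ *ᵥ v) = rho k g⁻¹ *ᵥ v := sub_eq_zero.1 (h3 _ (by linarith) _
      (hc1.vec (h1 v hv) (by rw [Jv.del_rho h2, hy v hv, mulVec_zero])))
    clear h6 h7
    induction n with
    | zero => rw [pow_zero, map_one, one_mulVec]
    | succ n ih => rw [pow_succ, mulVec_mul, h8, ih]
  · push Not at hM
    obtain ⟨r, hr, h4⟩ := hM
    refine Jv.xs_ne hr (key _ (fun v hv => ?_) (Jv.xs_pow r 1))
    have h5 : NM k r ∈ MGe k wc β (bf β (rv r)) := fun i j hij => by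
      show bf β (wv j) + _ ≤ bf β (wv i)
      rw [NM_ne hr hij, map_add]
    rw [rho_xs' hr, add_mulVec, one_mulVec, one_smul, h3 _ (by linarith) _ (MGe_mulVec h5 (h1 v hv)), add_zero]

/-- the annihilator of a subspace of `V` in the Lie algebra -/
def jv_ann (W : Submodule k (D1 → k)) : Submodule k (chevE7.Idx → k) where
  carrier := {z | ∀ y ∈ W, del k z *ᵥ y = 0}
  zero_mem' := fun y _ => by rw [map_zero, zero_mulVec]
  add_mem' := fun ha hb y hy => by rw [map_add, add_mulVec, ha y hy, hb y hy, add_zero]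
  smul_mem' := fun c _ ha y hy => by rw [map_smul, smul_mulVec, ha y hy, smul_zero]

theorem jv_sv_del (z : chevE7.Idx → k) (y : D1 → k) : S.sv (del k z *ᵥ y) = del k (S.sv z) *ᵥ S.sv y := by
  funext i
  show S.s ((del k z *ᵥ y) i) = _
  rw [RingHom.map_mulVec, Mu2.del_map]
  rfl

theorem jv_stb_ann (hp : p ≠ 2) {W : Submodule k (D1 → k)} (hW : S.Stb (rho k) W) : S.Stb (adM k) (jv_ann W) := by
  refine ⟨fun m hm z hz y hy => ?_, fun z hz y hy => ?_⟩
  · rw [← mulVec_inv' (rho k) m y, Jv.del_rho (S.nt_two hp), hz _ (hW.1 _ (inv_mem hm) y hy), mulVec_zero]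
  · obtain ⟨y', h1, rfl⟩ := S.k_sv_surj (X := W) hW.2 y hy
    refine (S.jv_sv_del z y').symm.trans ?_
    rw [hz y' h1]
    exact funext fun _ => map_zero _

/-- the statement NFT -/
def JvNFT : Prop := ∀ C : Submodule k (chevE7.Idx → k), S.Stb (adM k) C →
  (∀ x ∈ C, ∀ y ∈ C, ∀ z, del k z = del k x * del k y - del k y * del k x → z ∈ C) →
  (∀ x ∈ C, ∀ s z, La.Jd x s z → s ∈ C ∧ z ∈ C) → (∀ z ∈ C, IsNilpotent (del k z) → z = 0) → C = ⊥

theorem jv_fix_br (hp : p ≠ 2) : ∀ x ∈ S.nt_fix (adM k), ∀ y ∈ S.nt_fix (adM k), ∀ z,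
    del k z = del k x * del k y - del k y * del k x → z ∈ S.nt_fix (adM k) := fun x hx y hy z hz g => by
  rw [Mu.del_injective (hz.trans (del_br x y).symm), adM_br (S.nt_two hp), hx g, hy g]

theorem jv_fix_jd (hp : p ≠ 2) : ∀ x ∈ S.nt_fix (adM k), ∀ s z, La.Jd x s z →
    s ∈ S.nt_fix (adM k) ∧ z ∈ S.nt_fix (adM k) := fun _ hx _ _ h =>
  ⟨fun g => (h.fix (La.eqv (S.nt_two hp)) (hx g)).1, fun g => (h.fix (La.eqv (S.nt_two hp)) (hx g)).2⟩

theorem jv_ann_br (W : Submodule k (D1 → k)) : ∀ x ∈ jv_ann W, ∀ y ∈ jv_ann W, ∀ z,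
    del k z = del k x * del k y - del k y * del k x → z ∈ jv_ann W := fun x hx y hy z hz v hv => by
  rw [hz, sub_mulVec, ← mulVec_mulVec, ← mulVec_mulVec, hx v hv, hy v hv, mulVec_zero, mulVec_zero, sub_self]

theorem jv_ann_jd (h2 : (2 : k) ≠ 0) (W : Submodule k (D1 → k)) : ∀ x ∈ jv_ann W, ∀ s z, La.Jd x s z →
    s ∈ jv_ann W ∧ z ∈ jv_ann W := fun _ hx _ _ h =>
  ⟨fun v hv => (h.ker (La.eqv h2) (hx v hv)).1, fun v hv => (h.ker (La.eqv h2) (hx v hv)).2⟩

/-- **NF3** -/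
theorem jv_nofix (hp : p = 3) (hc : S.CK) (hT : S.JvNFT) : S.NoFix := fun y hy =>
  (Submodule.eq_bot_iff _).1 (hT _ (S.nt_stb_fix wrep_L) (S.jv_fix_br (by omega)) (S.jv_fix_jd (by omega))
    fun _ hz hn => S.jv_nf_nil hp hc hz hn) y hy

/-- **ANN3** -/
theorem jv_ann3 (hp : p = 3) (hc : S.CK) (ht : S.PT (rho k)) (hT : S.JvNFT) {W : Submodule k (D1 → k)}
    (hW : S.Stb (rho k) W) (h0 : W ≠ ⊥) {z : chevE7.Idx → k} (hz : ∀ y ∈ W, del k z *ᵥ y = 0) : z = 0 := by
  have hp2 : p ≠ 2 := by omega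
  have hA : ∃ x, ∃ y ∈ W, rho k (S.ψ x) *ᵥ y ≠ y := by
    by_contra h
    push Not at h
    exact h0 ((Submodule.eq_bot_iff _).2 fun y hy => S.nt_nofixV hp2 (S.jv_nofix hp hc hT) y fun x => h x y hy)
  exact (Submodule.eq_bot_iff _).1 (hT _ (S.jv_stb_ann hp2 hW) (jv_ann_br W) (jv_ann_jd (S.nt_two hp2) W)
    fun _ hz hn => S.jv_ann_nil hp ht hW hA hz hn) z hz

end Sit

end Cfsg.Agent.E7P

private theorem dce_b93ba516558e : _root_.True := by
  try have : _root_.True := by simp only [_root_.Cfsg.Agent.H943.SL2Rel.h.eq_1]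
  try have : _root_.True := by simp only [_root_.Cfsg.Agent.H943.SL2Rel.mi.eq_1]
  exact _root_.True.intro
end
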